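import Groth.Prelude.Def_DualLC
import Groth.Prelude.Def_EGA4b
import Groth.Agent.LC.FiniteCrit
import Groth.Agent.LC.CompleteCatenary
import Groth.Agent.FormCat.Descent
import Groth.Agent.FlatLoc6.FiberSelf
import Groth.Agent.FlatLoc6.NormFlat
import Groth.Agent.PopescuLib.Ratliff
import Groth.Agent.DimFormula.Order
import Mathlib.RingTheory.AdicCompletion.AsTensorProduct

/-!
# The invariant `s_{A,I}(M)` under completion and localization
-/

set_option autoImplicit false
set_option linter.style.haveILetI false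

universe u

open IsLocalRing TensorProduct Order

namespace Groth.Agent.LC.CutoffCpl

theorem cutoff_congr (A : Type u) [CommRing A] (I : Ideal A) {M N : Type u} [AddCommGroup M] [Module A M]
    [AddCommGroup N] [Module A N] (e : M ≃ₗ[A] N) : Dual2.cutoff A I M = Dual2.cutoff A I N := by
  refine iInf_congr fun p => iInf_congr fun q => iInf_congr fun h => iInf_congr fun _ => iInf_congr fun _ => ?_
  congr 1
  exact FlatLoc6.depth_congr' (IsLocalizedModule.mapEquiv p.asIdeal.primeCompl (LocalizedModule.mkLinearMap _ _)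
    (LocalizedModule.mkLinearMap _ _) (Localization.AtPrime p.asIdeal) e)

section Local

variable {R : Type u} [CommRing R] [IsLocalRing R] [IsNoetherianRing R]

/-- Dimension drop between two primes of a catenary local ring. -/
theorem qd_eq_add (hR : CAlg.IsUniversallyCatenary R) (p q : PrimeSpectrum R) (h : p ≤ q) :
    ∃ t : ℕ, Order.height (⟨q, h⟩ : Set.Ici p) = t ∧
      FormCat.qd R p.asIdeal = FormCat.qd R q.asIdeal + t := by
  haveI : IsLocalRing (R ⧸ p.asIdeal) := .of_surjective' _ Ideal.Quotient.mk_surjective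
  let π := Ideal.Quotient.mk p.asIdeal
  haveI : (q.asIdeal.map π).IsPrime :=
    Ideal.map_isPrime_of_surjective Ideal.Quotient.mk_surjective (by rw [Ideal.mk_ker]; exact h)
  have h1 := FlatLoc6.height_add_ringKrullDim_quotient (FormCat.isEquidim_quotient_prime R p.asIdeal)
    (hR.2 (R ⧸ p.asIdeal) inferInstance) (q.asIdeal.map π)
  rw [height_Ici_eq p q h]
  rw [ringKrullDim_eq_of_ringEquiv (DoubleQuot.quotQuotEquivQuotOfLE (show p.asIdeal ≤ q.asIdeal from h)),
    FormCat.coe_qd R q.asIdeal q.2.ne_top, FormCat.coe_qd R p.asIdeal p.2.ne_top] at h1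
  obtain ⟨t, ht⟩ := ENat.ne_top_iff_exists.1 (Ideal.height_ne_top (I := q.asIdeal.map π)
    (Ideal.IsPrime.ne_top inferInstance))
  refine ⟨t, ht.symm, ?_⟩
  rw [← ht] at h1
  have : t + FormCat.qd R q.asIdeal = FormCat.qd R p.asIdeal := by exact_mod_cast h1
  omega

/-- Dimension drop between two primes of a complete local ring. -/
theorem qd_eq_add_complete [IsAdicComplete (maximalIdeal R) R] (p q : PrimeSpectrum R) (h : p ≤ q) :
    ∃ t : ℕ, Order.height (⟨q, h⟩ : Set.Ici p) = t ∧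
      FormCat.qd R p.asIdeal = FormCat.qd R q.asIdeal + t := by
  let π := Ideal.Quotient.mk p.asIdeal
  haveI : (q.asIdeal.map π).IsPrime :=
    Ideal.map_isPrime_of_surjective Ideal.Quotient.mk_surjective (by rw [Ideal.mk_ker]; exact h)
  have h1 := dim_quot_eq_add_height p.asIdeal q.asIdeal h
  rw [height_Ici_eq p q h]
  rw [FormCat.coe_qd R q.asIdeal q.2.ne_top, FormCat.coe_qd R p.asIdeal p.2.ne_top] at h1
  obtain ⟨t, ht⟩ := ENat.ne_top_iff_exists.1 (Ideal.height_ne_top (I := q.asIdeal.map π)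
    (Ideal.IsPrime.ne_top inferInstance))
  refine ⟨t, ht.symm, ?_⟩
  rw [← ht] at h1
  exact_mod_cast h1

theorem qd_le_of_map_le (p : Ideal R) [p.IsPrime] (X : Ideal (EGA4.Cpl R)) [X.IsPrime]
    (h : p.map (algebraMap R (EGA4.Cpl R)) ≤ X) :
    haveI := FlatLoc6.isLocalRing_cpl R
    FormCat.qd (EGA4.Cpl R) X ≤ FormCat.qd R p := by
  haveI := FlatLoc6.isLocalRing_cpl R
  haveI := FlatLoc6.isNoetherianRing_cpl R
  haveI : IsLocalRing (R ⧸ p) := .of_surjective' _ Ideal.Quotient.mk_surjective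
  have h1 : ringKrullDim (EGA4.Cpl R ⧸ X) ≤
      ringKrullDim (EGA4.Cpl R ⧸ p.map (algebraMap R (EGA4.Cpl R))) :=
    ringKrullDim_le_of_surjective (Ideal.Quotient.factor h) (Ideal.Quotient.factor_surjective h)
  rw [FormCat.ringKrullDim_cpl_quotient, FormCat.coe_qd R p (Ideal.IsPrime.ne_top inferInstance),
    FormCat.coe_qd _ X (Ideal.IsPrime.ne_top inferInstance)] at h1
  exact_mod_cast h1

theorem qd_eq_of_minimal (hR : CAlg.IsUniversallyCatenary R) (p : Ideal R) [p.IsPrime] (X : Ideal (EGA4.Cpl R))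
    (h : X ∈ (p.map (algebraMap R (EGA4.Cpl R))).minimalPrimes) :
    haveI := FlatLoc6.isLocalRing_cpl R
    FormCat.qd (EGA4.Cpl R) X = FormCat.qd R p := by
  haveI := FlatLoc6.isLocalRing_cpl R
  haveI := FlatLoc6.isNoetherianRing_cpl R
  haveI := h.1.1
  haveI : IsLocalRing (R ⧸ p) := .of_surjective' _ Ideal.Quotient.mk_surjective
  have hfe := PopescuLib.Ratliff.isFormallyCatenary R hR p
  rw [FormCat.isFormallyEquidim_quotient_iff] at hfe
  let π := Ideal.Quotient.mk (p.map (algebraMap R (EGA4.Cpl R)))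
  rw [Ideal.minimalPrimes_eq_comap] at h
  obtain ⟨x, hx, rfl⟩ := h
  have hk : RingHom.ker ((Ideal.Quotient.mk x).comp π) = x.comap π := by rw [← RingHom.comap_ker, Ideal.mk_ker]
  have e : ringKrullDim ((EGA4.Cpl R ⧸ p.map (algebraMap R (EGA4.Cpl R))) ⧸ x) =
      ringKrullDim (EGA4.Cpl R ⧸ x.comap π) :=
    (ringKrullDim_eq_of_ringEquiv ((Ideal.quotEquivOfEq hk.symm).trans
      (RingHom.quotientKerEquivOfSurjective
        (Ideal.Quotient.mk_surjective.comp Ideal.Quotient.mk_surjective)))).symm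
  have h1 := e.symm.trans (hfe x hx)
  rw [FormCat.ringKrullDim_cpl_quotient, FormCat.coe_qd R p (Ideal.IsPrime.ne_top inferInstance),
    FormCat.coe_qd _ _ (Ideal.IsPrime.ne_top inferInstance)] at h1
  exact_mod_cast h1

/-- Completion does not increase the cutoff. -/
theorem cutoff_cpl_le (hR : CAlg.IsUniversallyCatenary R) (I : Ideal R) (M : Type u) [AddCommGroup M]
    [Module R M] [Module.Finite R M] :
    Dual2.cutoff (EGA4.Cpl R) (I.map (algebraMap R (EGA4.Cpl R))) (EGA4.Cpl R ⊗[R] M) ≤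
      Dual2.cutoff R I M := by
  haveI := FlatLoc6.isLocalRing_cpl R
  haveI := FlatLoc6.isNoetherianRing_cpl R
  haveI := FlatLoc6.faithfullyFlat_cpl R
  haveI := FormCat.isAdicComplete_cpl R
  let C := EGA4.Cpl R
  refine le_iInf fun p => le_iInf fun q => le_iInf fun h => le_iInf fun hp => le_iInf fun hq => ?_
  by_cases hE : (⟨p.asIdeal, p.2⟩ : PrimeSpectrum R) ∈ Module.support R M
  swap
  · haveI : Subsingleton (LocalizedModule p.asIdeal.primeCompl M) := Module.notMem_support_iff.1 hE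
    rw [FlatLoc6.depth_top_of_subsingleton, top_add]
    exact le_top
  obtain ⟨Q', hQ'⟩ := Ideal.nonempty_minimalPrimes (I := q.asIdeal.map (algebraMap R C)) fun ht =>
    q.2.ne_top (by rw [← Ideal.comap_map_eq_self_of_faithfullyFlat (B := C) q.asIdeal, ht, Ideal.comap_top])
  haveI := hQ'.1.1
  have hQq : Q'.comap (algebraMap R C) = q.asIdeal := FormCat.under_eq_of_mem_minimalPrimes q.asIdeal hQ'
  obtain ⟨P, hPp, hPQ, hcP, -, hfib⟩ := FlatLoc6.exists_fib_zero_le Q' p.asIdeal (hQq.symm ▸ h)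
  haveI := hPp
  let P₁ : PrimeSpectrum C := ⟨P, hPp⟩
  let Q₁ : PrimeSpectrum C := ⟨Q', inferInstance⟩
  have hPQ₁ : P₁ ≤ Q₁ := hPQ
  refine (iInf_le_of_le P₁ (iInf_le_of_le Q₁ (iInf_le_of_le hPQ₁ (iInf_le_of_le
    (fun hI => hp (hcP ▸ Ideal.map_le_iff_le_comap.1 hI))
    (iInf_le _ ((Ideal.map_mono hq).trans hQ'.1.2)))))).trans (add_le_add ?_ ?_)
  · have hF : (⟨P, hPp⟩ : PrimeSpectrum C) ∈ Module.support C C := by
      rw [Module.mem_support_iff]
      exact (LC.selfLoc P.primeCompl).toEquiv.nontrivial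
    obtain ⟨hd, -⟩ := FlatLoc6.formulas_atPrime C M p.asIdeal P hcP hF hE
    rw [hd, hfib, add_zero]
  · obtain ⟨t, ht, htq⟩ := qd_eq_add hR p q h
    obtain ⟨t', ht', htq'⟩ := qd_eq_add_complete P₁ Q₁ hPQ₁
    have h1 := qd_le_of_map_le p.asIdeal P (Ideal.map_le_iff_le_comap.2 hcP.ge)
    have h2 := qd_eq_of_minimal hR q.asIdeal Q' hQ'
    rw [ht, ht', Nat.cast_le]
    change FormCat.qd (EGA4.Cpl R) P = FormCat.qd (EGA4.Cpl R) Q' + t' at htq'
    omega

/-- With `(S_n)` formal fibres the cutoff of the completion is at least `min (n+1) s`. -/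
theorem min_le_cutoff_cpl (hR : CAlg.IsUniversallyCatenary R) (n : ℕ) (hF : EGA4.HasSnFormalFibres n R)
    (I : Ideal R) (M : Type u) [AddCommGroup M] [Module R M] [Module.Finite R M] :
    min ((n : ℕ∞) + 1) (Dual2.cutoff R I M) ≤
      Dual2.cutoff (EGA4.Cpl R) (I.map (algebraMap R (EGA4.Cpl R))) (EGA4.Cpl R ⊗[R] M) := by
  haveI := FlatLoc6.isLocalRing_cpl R
  haveI := FlatLoc6.isNoetherianRing_cpl R
  haveI := FlatLoc6.faithfullyFlat_cpl R
  haveI := FormCat.isAdicComplete_cpl R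
  let C := EGA4.Cpl R
  refine le_iInf fun P => le_iInf fun Q => le_iInf fun h => le_iInf fun hP => le_iInf fun hQ => ?_
  by_cases hT : P ∈ Module.support C (C ⊗[R] M)
  swap
  · haveI : Subsingleton (LocalizedModule P.asIdeal.primeCompl (C ⊗[R] M)) := Module.notMem_support_iff.1 hT
    rw [FlatLoc6.depth_top_of_subsingleton, top_add]
    exact le_top
  obtain ⟨hPC, hE⟩ := (FlatLoc6.mem_support_tensor_iff _).1 hT
  let p := PrimeSpectrum.comap (algebraMap R C) P
  let q := PrimeSpectrum.comap (algebraMap R C) Q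
  obtain ⟨hd, -⟩ := FlatLoc6.formulas_atPrime C M p.asIdeal P.asIdeal rfl hPC hE
  rw [hd]
  obtain ⟨t', ht', htq'⟩ := qd_eq_add_complete P Q h
  rw [ht']
  have ht1 : 1 ≤ t' := by
    by_contra hlt
    have h0 : Order.height (⟨Q, h⟩ : Set.Ici P) = 0 := by rw [ht', show t' = 0 by omega]; rfl
    rw [Order.height_eq_zero] at h0
    have e := h0 (b := ⟨P, (le_refl P : P ≤ P)⟩) h
    exact hP (hQ.trans (show Q.asIdeal ≤ P.asIdeal from e))
  have hfle := FlatLoc6.fib_le_of_fiber_hasSk n p.asIdeal P.asIdeal rfl (hF p.asIdeal)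
  rcases min_le_iff.1 hfle with hn | hdim
  · refine (min_le_left _ _).trans ?_
    have hn' : (n : ℕ∞) ≤ FlatLoc6.fibDepth R P.asIdeal C := by exact_mod_cast hn
    exact add_le_add (hn'.trans le_add_self) (by exact_mod_cast ht1)
  refine (min_le_right _ _).trans ?_
  have hpq : p ≤ q := Ideal.comap_mono h
  refine (iInf_le_of_le p (iInf_le_of_le q (iInf_le_of_le hpq (iInf_le_of_le
    (fun hI => hP (Ideal.map_le_iff_le_comap.2 hI)) (iInf_le _ (Ideal.map_le_iff_le_comap.1 hQ)))))).trans ?_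
  rw [add_assoc]
  refine add_le_add le_rfl ?_
  obtain ⟨t, ht, htq⟩ := qd_eq_add hR p q hpq
  rw [ht]
  obtain ⟨X, hX, hXP⟩ := Ideal.exists_minimalPrimes_le
    (Ideal.map_le_iff_le_comap.2 le_rfl : p.asIdeal.map (algebraMap R C) ≤ P.asIdeal)
  haveI := hX.1.1
  let X₁ : PrimeSpectrum C := ⟨X, inferInstance⟩
  have hXP₁ : X₁ ≤ P := hXP
  obtain ⟨s, hs, hsq⟩ := qd_eq_add_complete X₁ P hXP₁
  have hh : ((s : ℕ∞) : WithBot ℕ∞) ≤ FlatLoc6.fibDim R P.asIdeal C := by
    have h1 := DimFormula.height_add_height_le hXP₁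
    rw [hs, ← PrimeSpectrum.height_eq_orderHeight, ← PrimeSpectrum.height_eq_orderHeight,
      show X₁.asIdeal.height = p.asIdeal.height from FormCat.height_eq_of_mem_minimalPrimes p.asIdeal hX] at h1
    have h2 := (FlatLoc6.formulas_self p.asIdeal P.asIdeal rfl).2
    obtain ⟨a, ha⟩ := ENat.ne_top_iff_exists.1 (Ideal.height_ne_top (I := p.asIdeal) p.2.ne_top)
    obtain ⟨b, hb⟩ := ENat.ne_top_iff_exists.1 (Ideal.height_ne_top (I := P.asIdeal) P.2.ne_top)
    rw [← ha, ← hb] at h1 h2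
    revert h2
    generalize FlatLoc6.fibDim R P.asIdeal C = fd
    intro h2
    have h1' : a + s ≤ b := by exact_mod_cast h1
    cases fd with
    | bot => simp at h2
    | coe fd =>
      cases fd with
      | top => exact_mod_cast le_top
      | coe fd =>
        have h2' : b = a + fd := by exact_mod_cast h2
        exact_mod_cast (by omega : s ≤ fd)
  have hsf : (s : ℕ∞) ≤ FlatLoc6.fibDepth R P.asIdeal C := by exact_mod_cast hh.trans hdim
  refine le_trans ?_ (add_le_add hsf le_rfl)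
  have h1 := qd_eq_of_minimal hR p.asIdeal X hX
  have h2 := qd_le_of_map_le q.asIdeal Q.asIdeal (Ideal.map_le_iff_le_comap.2 le_rfl)
  change FormCat.qd (EGA4.Cpl R) X = FormCat.qd (EGA4.Cpl R) P.asIdeal + s at hsq
  change FormCat.qd (EGA4.Cpl R) P.asIdeal = FormCat.qd (EGA4.Cpl R) Q.asIdeal + t' at htq'
  change FormCat.qd R p.asIdeal = FormCat.qd R q.asIdeal + t at htq
  change FormCat.qd (EGA4.Cpl R) Q.asIdeal ≤ FormCat.qd R q.asIdeal at h2
  rw [← Nat.cast_add, Nat.cast_le]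
  omega

end Local

section Localization

variable {A : Type u} [CommRing A] (q₀ : PrimeSpectrum A) (I : Ideal A) (M : Type u) [AddCommGroup M] [Module A M]

theorem height_Ici_atPrime (P Q : PrimeSpectrum (Localization.AtPrime q₀.asIdeal)) (h : P ≤ Q) :
    Order.height (⟨Q, h⟩ : Set.Ici P) =
      Order.height (⟨PrimeSpectrum.comap (algebraMap A _) Q, Ideal.comap_mono h⟩ :
        Set.Ici (PrimeSpectrum.comap (algebraMap A (Localization.AtPrime q₀.asIdeal)) P)) := by
  let Aq := Localization.AtPrime q₀.asIdeal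
  let e := IsLocalization.orderEmbedding q₀.asIdeal.primeCompl Aq
  have hmono : ∀ a b : PrimeSpectrum Aq,
      PrimeSpectrum.comap (algebraMap A Aq) a ≤ PrimeSpectrum.comap (algebraMap A Aq) b ↔ a ≤ b := fun a b =>
    e.le_iff_le (a := a.asIdeal) (b := b.asIdeal)
  let f : Set.Ici P → Set.Ici (PrimeSpectrum.comap (algebraMap A Aq) P) := fun x =>
    ⟨PrimeSpectrum.comap (algebraMap A Aq) x.1, Ideal.comap_mono x.2⟩
  have hf : StrictMono f := fun x y hxy =>
    lt_of_le_not_ge ((hmono x.1 y.1).2 hxy.le) fun hh => hxy.not_ge ((hmono y.1 x.1).1 hh)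
  refine Order.height_eq_of_strictMono f hf (fun a b hb => ?_) _
  have hbr : b.1 ∈ Set.range (PrimeSpectrum.comap (algebraMap A Aq)) := by
    rw [PrimeSpectrum.localization_comap_range Aq q₀.asIdeal.primeCompl]
    refine Set.disjoint_left.2 fun x hx hxb => ?_
    have hxa : algebraMap A Aq x ∈ a.1.asIdeal := (show b.1.asIdeal ≤ _ from hb.le) hxb
    exact a.1.2.ne_top (Ideal.eq_top_of_isUnit_mem _ hxa (IsLocalization.map_units Aq ⟨x, hx⟩))
  obtain ⟨y, hy⟩ := hbr
  have hPy : P ≤ y := (hmono P y).1 (hy ▸ b.2)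
  refine ⟨⟨y, hPy⟩, ?_, Subtype.ext hy⟩
  have h1 : y ≤ a.1 := (hmono y a.1).1 (hy ▸ hb.le)
  refine lt_of_le_of_ne (show y ≤ a.1 from h1) fun he => hb.ne (Subtype.ext (hy.symm.trans ?_))
  exact congrArg (fun z => PrimeSpectrum.comap (algebraMap A Aq) z) (congrArg Subtype.val he)

set_option maxHeartbeats 1000000 in
/-- Localization does not decrease the cutoff. -/
theorem cutoff_le_atPrime : Dual2.cutoff A I M ≤
    Dual2.cutoff (Localization.AtPrime q₀.asIdeal) (I.map (algebraMap A _))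
      (LocalizedModule q₀.asIdeal.primeCompl M) := by
  refine le_iInf fun P => le_iInf fun Q => le_iInf fun h => le_iInf fun hP => le_iInf fun hQ => ?_
  rw [Alg6.depth_locLoc, height_Ici_atPrime q₀ P Q h]
  let p := PrimeSpectrum.comap (algebraMap A (Localization.AtPrime q₀.asIdeal)) P
  let q := PrimeSpectrum.comap (algebraMap A (Localization.AtPrime q₀.asIdeal)) Q
  have hpq : p ≤ q := Ideal.comap_mono h
  have hp : ¬ I ≤ p.asIdeal := fun hI => hP (Ideal.map_le_iff_le_comap.2 hI)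
  have hq : I ≤ q.asIdeal := Ideal.map_le_iff_le_comap.1 hQ
  exact iInf_le_of_le p (iInf_le_of_le q (iInf_le_of_le hpq (iInf_le_of_le hp (iInf_le _ hq))))

theorem cutoff_atPrime_le_comap (P Q : PrimeSpectrum (Localization.AtPrime q₀.asIdeal)) (h : P ≤ Q)
    (p q : PrimeSpectrum A) (hp : PrimeSpectrum.comap (algebraMap A _) P = p)
    (hq : PrimeSpectrum.comap (algebraMap A _) Q = q) (hpq : p ≤ q) (hIp : ¬ I ≤ p.asIdeal) (hIq : I ≤ q.asIdeal) :
    Dual2.cutoff (Localization.AtPrime q₀.asIdeal) (I.map (algebraMap A _))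
      (LocalizedModule q₀.asIdeal.primeCompl M) ≤
    LocCoh.depth (Localization.AtPrime p.asIdeal) (LocalizedModule p.asIdeal.primeCompl M) +
      Order.height (⟨q, hpq⟩ : Set.Ici p) := by
  subst hp
  subst hq
  have h1 : ¬ I.map (algebraMap A (Localization.AtPrime q₀.asIdeal)) ≤ P.asIdeal := fun hI =>
    hIp (Ideal.map_le_iff_le_comap.1 hI)
  have h2 : I.map (algebraMap A (Localization.AtPrime q₀.asIdeal)) ≤ Q.asIdeal := Ideal.map_le_iff_le_comap.2 hIq
  refine (iInf_le_of_le P (iInf_le_of_le Q (iInf_le_of_le h (iInf_le_of_le h1 (iInf_le _ h2))))).trans (le_of_eq ?_)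
  rw [Alg6.depth_locLoc, height_Ici_atPrime q₀ P Q h]
  rfl

theorem cutoff_atPrime_le (p : PrimeSpectrum A) (h : p ≤ q₀) (hp : ¬ I ≤ p.asIdeal) (hq : I ≤ q₀.asIdeal) :
    Dual2.cutoff (Localization.AtPrime q₀.asIdeal) (I.map (algebraMap A _))
      (LocalizedModule q₀.asIdeal.primeCompl M) ≤
    LocCoh.depth (Localization.AtPrime p.asIdeal) (LocalizedModule p.asIdeal.primeCompl M) +
      Order.height (⟨q₀, h⟩ : Set.Ici p) := by
  have hdisj : Disjoint (q₀.asIdeal.primeCompl : Set A) (p.asIdeal : Set A) :=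
    Set.disjoint_left.2 fun a ha hap => ha (h hap)
  let P : PrimeSpectrum (Localization.AtPrime q₀.asIdeal) := ⟨p.asIdeal.map (algebraMap A _),
    IsLocalization.isPrime_of_isPrime_disjoint _ _ _ p.2 hdisj⟩
  exact cutoff_atPrime_le_comap q₀ I M P (closedPoint _) (le_maximalIdeal P.2.ne_top) p q₀
    (PrimeSpectrum.ext (IsLocalization.under_map_of_isPrime_disjoint q₀.asIdeal.primeCompl _ p.2 hdisj))
    (PrimeSpectrum.ext Localization.AtPrime.under_maximalIdeal) h hp hq

end Localization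

end Groth.Agent.LC.CutoffCpl
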