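import Groth.Agent.LC.CanonIdeal
import Groth.Agent.LC.CanonSupport

/-!
# Ideals isomorphic to canonical modules are unmixed of height one
-/

set_option autoImplicit false

universe u

open CategoryTheory Limits IsLocalRing RingTheory.Sequence
open scoped Pointwise

namespace Groth.Agent.LC.Canon

/-- Associated primes of the quotient by a canonical ideal have height one. -/
theorem height_ass_quot_canon_ideal {R : Type u} [CommRing R] [IsDomain R] [IsNoetherianRing R] [IsLocalRing R] {n : ℕ}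
    (hn : ringKrullDim R = n) {E : Type u} [AddCommGroup E] [Module R E] {f : ResidueField R →ₗ[R] E}
    (hf : InjHull.IsInjectiveHull f) (I : Ideal R) (hI : I ≠ ⊥)
    (eK : (I →ₗ[R] E) ≃ₗ[R] (localCohomology (maximalIdeal R) n).obj (ModuleCat.of R R))
    (q : Ideal R) (hq : q ∈ associatedPrimes R (R ⧸ I)) : q.height = 1 := by
  haveI hqp : q.IsPrime := hq.isPrime
  obtain ⟨xb, hx⟩ := (isAssociatedPrime_iff.1 ((AssociatedPrimes.mem_iff).1 hq)).2
  obtain ⟨x, rfl⟩ := Submodule.Quotient.mk_surjective _ xb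
  have hxI : x ∉ I := fun h => hqp.ne_top (by
    rw [hx, Ideal.eq_top_iff_one, Submodule.mem_colon_singleton, one_smul]
    exact (Submodule.mem_bot R).2 ((Submodule.Quotient.mk_eq_zero I).2 h))
  have hqx : ∀ a ∈ q, a * x ∈ I := fun a ha => by
    rw [hx, Submodule.mem_colon_singleton, Submodule.mem_bot, ← Submodule.Quotient.mk_smul,
      Submodule.Quotient.mk_eq_zero] at ha
    exact ha
  have hIq : I ≤ q := fun a ha => by
    rw [hx, Submodule.mem_colon_singleton, Submodule.mem_bot, ← Submodule.Quotient.mk_smul,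
      Submodule.Quotient.mk_eq_zero]
    exact I.mul_mem_right x ha
  obtain ⟨a, haI, ha0⟩ := Submodule.exists_mem_ne_zero_of_ne_bot hI
  have h1 : 1 ≤ q.height := by
    rw [Order.one_le_iff_ne_zero, Ne, Ideal.height_eq_zero_iff_eq_bot]
    exact fun h => ha0 ((Submodule.mem_bot R).1 (h ▸ hIq haI))
  refine le_antisymm ?_ h1
  by_contra h2
  have h2' : (2 : ℕ∞) ≤ q.height := by
    rw [not_le] at h2
    exact Order.add_one_le_of_lt h2
  obtain ⟨k, hk, hqdim⟩ := exists_ringKrullDim_quot_eq_nat (R := R) hn.le hqp.ne_top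
  have hle := height_add_dim_quot_le q
  rw [hn, hqdim] at hle
  have hkn : 2 + k ≤ n := by
    have h3 : ((2 : ℕ) : WithBot ℕ∞) + (k : WithBot ℕ∞) ≤ (n : WithBot ℕ∞) :=
      le_trans (add_le_add (by simpa using (WithBot.coe_le_coe.2 h2')) le_rfl) hle
    exact_mod_cast h3
  obtain ⟨m, rfl⟩ : ∃ m, n = m + 1 + 1 := ⟨n - 2, by omega⟩
  have hq0 : ringKrullDim (R ⧸ q) ≤ m := hqdim.le.trans (by exact_mod_cast (by omega : k ≤ m))
  have haq := hIq haI
  have hdima : ringKrullDim (R ⧸ Ideal.span {a}) ≤ ((m + 1 : ℕ) : WithBot ℕ∞) := by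
    have h := ringKrullDim_quotient_succ_le_of_nonZeroDivisor (mem_nonZeroDivisors_of_ne_zero ha0)
    rw [hn] at h
    obtain ⟨d, -, hd⟩ := exists_ringKrullDim_quot_eq_nat (R := R) hn.le (I := Ideal.span {a})
      (fun ht => hqp.ne_top (top_le_iff.1 (ht ▸ (Ideal.span_singleton_le_iff_mem _).2 haq)))
    rw [hd] at h ⊢
    have h' : d + 1 ≤ m + 1 + 1 := by exact_mod_cast h
    exact_mod_cast (by omega : d ≤ m + 1)
  obtain ⟨b, hbq, hb⟩ := exists_mem_dim_lt hdima ((Ideal.span_singleton_le_iff_mem _).2 haq) hq0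
  have hreg := isWeaklyRegular_pair (K := I) hn hf eK rfl hdima
    (hb.trans_lt (by exact_mod_cast Nat.lt_succ_self m))
  rw [isWeaklyRegular_cons_iff, isWeaklyRegular_cons_iff] at hreg
  let ξ : I := ⟨a * x, hqx a haq⟩
  have hbξ : b • (Submodule.Quotient.mk ξ : QuotSMulTop a I) = 0 := by
    rw [← Submodule.Quotient.mk_smul, Submodule.Quotient.mk_eq_zero, Submodule.mem_smul_pointwise_iff_exists]
    exact ⟨⟨b * x, hqx b hbq⟩, Submodule.mem_top, Subtype.ext (mul_left_comm a b x)⟩
  have hξ := isSMulRegular_iff_right_eq_zero_of_smul.1 hreg.2.1 _ hbξ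
  rw [Submodule.Quotient.mk_eq_zero, Submodule.mem_smul_pointwise_iff_exists] at hξ
  obtain ⟨⟨y, hy⟩, -, he⟩ := hξ
  exact hxI (mul_left_cancel₀ ha0 (show a * y = a * x from congrArg Subtype.val he) ▸ hy)

end Groth.Agent.LC.Canon
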