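import Groth.Agent.LC.CplDepthDim
import Groth.Agent.AnLocal.Formal
import Groth.Agent.H9Misc.DRingLBase
import Groth.Agent.S1723
import Groth.Agent.S1775
import Groth.Agent.S1721
import Groth.Agent.LC.Liaison
import Groth.Agent.FormalFib6.Cplt
import Groth.Prelude.Def_DualLC

/-!
# Depth and dimension along an adic completion
-/

set_option autoImplicit false
set_option linter.style.haveILetI false

universe u

open IsLocalRing TensorProduct Order CategoryTheory

attribute [local instance] HasDerivedCategory.standard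

namespace Groth.Agent.LC.CplDepthDim

theorem exists_sub_mem_pow {A : Type u} [CommRing A] [IsNoetherianRing A] (I : Ideal A)
    (x : AdicCompletion I A) (n : ℕ) :
    ∃ a : A, x - algebraMap A (AdicCompletion I A) a ∈ I.map (algebraMap A (AdicCompletion I A)) ^ n := by
  obtain ⟨a, ha⟩ := Submodule.mkQ_surjective _ (AdicCompletion.eval I A n x)
  refine ⟨a, ?_⟩
  rw [← Ideal.map_pow, ← LocalCrit.smul_top_eq_map,
    AdicCompletion.pow_smul_top_eq_ker_eval (IsNoetherian.noetherian I)]
  rw [LinearMap.mem_ker, map_sub, ← ha, sub_eq_zero]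
  exact (AdicCompletion.eval_of _ _ n a).symm

/-- A dualizing complex gives universally catenary localizations with Cohen–Macaulay formal fibres. -/
theorem catenary_and_CM {A : Type u} [CommRing A] [IsNoetherianRing A] (hA : ∃ ω : Dual.D A, Dual.IsDualizing A ω)
    (q : Ideal A) [q.IsPrime] :
    CAlg.IsUniversallyCatenary (Localization.AtPrime q) ∧ EGA4.HasCMFormalFibres (Localization.AtPrime q) := by
  obtain ⟨ω, hω⟩ := hA
  haveI := Groth.Agent.H9Misc.DRingLBase.hasLBaseChange (algebraMap A (Localization q.primeCompl))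
  have hq := S1775.result A q.primeCompl ω hω
  refine ⟨DimFormula.isUniversallyCatenary_localization (S1721.result A ω hω) q.primeCompl _, fun p _ => ?_⟩
  haveI := S1723.result (Localization q.primeCompl) _ hq ⟨p, inferInstance⟩
  exact LC.Liaison.isCohenMacaulayRing_of_gorenstein _

set_option maxHeartbeats 2000000 in
theorem depth_dim_adicCompletion {A : Type u} [CommRing A] [IsNoetherianRing A]
    (hA : ∃ ω : Dual.D A, Dual.IsDualizing A ω) (I : Ideal A) (M : Type u) [AddCommGroup M] [Module A M]
    [Module.Finite A M] (p' q' : PrimeSpectrum (AdicCompletion I A)) (hpq : p' ≤ q')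
    (hq : I.map (algebraMap A (AdicCompletion I A)) ≤ q'.asIdeal) (p q : PrimeSpectrum A)
    (hp' : PrimeSpectrum.comap (algebraMap A (AdicCompletion I A)) p' = p)
    (hq' : PrimeSpectrum.comap (algebraMap A (AdicCompletion I A)) q' = q) :
    LocCoh.depth (Localization.AtPrime p.asIdeal) (LocalizedModule p.asIdeal.primeCompl M) ≤
        LocCoh.depth (Localization.AtPrime p'.asIdeal) (LocalizedModule p'.asIdeal.primeCompl (AdicCompletion I M)) ∧
    ((LocCoh.depth (Localization.AtPrime p'.asIdeal) (LocalizedModule p'.asIdeal.primeCompl (AdicCompletion I M)) : ℕ∞) : WithBot ℕ∞) +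
        Order.krullDim (Set.Icc p' q') =
      ((LocCoh.depth (Localization.AtPrime p.asIdeal) (LocalizedModule p.asIdeal.primeCompl M) : ℕ∞) : WithBot ℕ∞) +
        Order.krullDim (Set.Icc p q) := by
  let A' := AdicCompletion I A
  haveI : IsNoetherianRing A' := FormalFib6.isNoetherianRing_adicCompletion A I
  haveI : IsScalarTower A A' (AdicCompletion I M) := inferInstance
  let eM := AdicCompletion.ofTensorProductEquivOfFiniteNoetherian I M
  have eloc : LocCoh.depth (Localization.AtPrime p'.asIdeal) (LocalizedModule p'.asIdeal.primeCompl (AdicCompletion I M)) =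
      LocCoh.depth (Localization.AtPrime p'.asIdeal) (LocalizedModule p'.asIdeal.primeCompl (A' ⊗[A] M)) :=
    (FlatLoc6.depth_congr' (IsLocalizedModule.mapEquiv p'.asIdeal.primeCompl (LocalizedModule.mkLinearMap _ _)
      (LocalizedModule.mkLinearMap _ _) (Localization.AtPrime p'.asIdeal) eM)).symm
  rw [eloc]
  have hple : p ≤ q := by rw [← hp', ← hq']; exact Ideal.comap_mono hpq
  have hcp : p'.asIdeal.comap (algebraMap A A') = p.asIdeal := congrArg PrimeSpectrum.asIdeal hp'
  have hcq : q'.asIdeal.comap (algebraMap A A') = q.asIdeal := congrArg PrimeSpectrum.asIdeal hq'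
  let R := Localization.AtPrime q.asIdeal
  let R' := Localization.AtPrime q'.asIdeal
  haveI : IsNoetherianRing R' := IsLocalization.isNoetherianRing q'.asIdeal.primeCompl R' inferInstance
  letI : Algebra R R' := (IsLocalization.lift (M := q.asIdeal.primeCompl) (g := algebraMap A R') fun y => by
    rw [IsScalarTower.algebraMap_apply A A' R']
    exact IsLocalization.map_units R' (⟨algebraMap A A' y.1, fun h => y.2 ((SetLike.ext_iff.1 hcq y.1).1 h)⟩ : q'.asIdeal.primeCompl)).toAlgebra
  haveI : IsScalarTower A R R' := IsScalarTower.of_algebraMap_eq fun a => (IsLocalization.lift_eq _ a).symm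
  haveI : Module.Flat A R' := Module.Flat.trans A A' R'
  haveI : Module.Flat R R' := (Module.flat_iff_of_isLocalization R q.asIdeal.primeCompl R').2 inferInstance
  have hqA : q'.asIdeal = q.asIdeal.map (algebraMap A A') := by
    refine le_antisymm (fun x hx => ?_) (Ideal.map_le_iff_le_comap.2 hcq.ge)
    obtain ⟨a, ha⟩ := exists_sub_mem_pow I x 1
    rw [pow_one] at ha
    have hIq : I ≤ q.asIdeal := hcq ▸ Ideal.map_le_iff_le_comap.1 hq
    have haq : a ∈ q.asIdeal := hcq ▸ (show algebraMap A A' a ∈ q'.asIdeal by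
      simpa using sub_mem hx (hq ha))
    rw [← sub_add_cancel x (algebraMap A A' a)]
    exact add_mem (Ideal.map_mono hIq ha) (Ideal.mem_map_of_mem _ haq)
  have hm : (maximalIdeal R).map (algebraMap R R') = maximalIdeal R' := by
    rw [← Localization.AtPrime.map_eq_maximalIdeal, Ideal.map_map, ← IsScalarTower.algebraMap_eq,
      IsScalarTower.algebraMap_eq A A' R', ← Ideal.map_map, ← hqA]
    exact Localization.AtPrime.map_eq_maximalIdeal
  haveI : IsLocalHom (algebraMap R R') := ((local_hom_TFAE _).out 0 2).mpr hm.le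
  haveI : Module.FaithfullyFlat R R' := Module.FaithfullyFlat.of_flat_of_isLocalHom
  have hm' : maximalIdeal R' = q'.asIdeal.map (algebraMap A' R') := Localization.AtPrime.map_eq_maximalIdeal.symm
  obtain ⟨e⟩ := AnLocal.exists_cplEquiv (A := R) (B := R') hm (fun b n => by
    rcases n with _ | n
    · exact ⟨0, by rw [pow_zero, Ideal.one_eq_top]; trivial⟩
    obtain ⟨x, s, rfl⟩ := IsLocalization.exists_mk'_eq q'.asIdeal.primeCompl b
    obtain ⟨a, ha⟩ := exists_sub_mem_pow I x (n + 1)
    obtain ⟨c, hc⟩ := exists_sub_mem_pow I (s : A') (n + 1)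
    have ha' := Ideal.pow_right_mono hq (n + 1) ha
    have hc' := Ideal.pow_right_mono hq (n + 1) hc
    have hcq' : c ∈ q.asIdeal.primeCompl := fun h => s.2 (by
      have h1 : algebraMap A A' c ∈ q'.asIdeal := by rw [← Ideal.mem_comap, hcq]; exact h
      have h2 : ((s : A') - algebraMap A A' c) + algebraMap A A' c ∈ q'.asIdeal :=
        add_mem (Ideal.pow_le_self (Nat.succ_ne_zero n) hc') h1
      rwa [sub_add_cancel] at h2)
    refine ⟨IsLocalization.mk' R a ⟨c, hcq'⟩, ?_⟩
    have hu : IsUnit (algebraMap A' R' s * algebraMap A R' c) := (IsLocalization.map_units R' s).mul (by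
      rw [IsScalarTower.algebraMap_apply A R R']
      exact (IsLocalization.map_units R (⟨c, hcq'⟩ : q.asIdeal.primeCompl)).map _)
    rw [← Ideal.mul_unit_mem_iff_mem _ hu, hm', ← Ideal.map_pow]
    have e1 : IsLocalization.mk' R' x s * algebraMap A' R' s = algebraMap A' R' x := IsLocalization.mk'_spec _ _ _
    have e2 : algebraMap R R' (IsLocalization.mk' R a ⟨c, hcq'⟩) * algebraMap A R' c = algebraMap A R' a := by
      rw [IsScalarTower.algebraMap_apply A R R' c, ← map_mul, IsLocalization.mk'_spec R a (⟨c, hcq'⟩ : q.asIdeal.primeCompl),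
        ← IsScalarTower.algebraMap_apply]
    have e3 : (IsLocalization.mk' R' x s - algebraMap R R' (IsLocalization.mk' R a ⟨c, hcq'⟩)) *
        (algebraMap A' R' s * algebraMap A R' c) =
        algebraMap A' R' ((x - algebraMap A A' a) * algebraMap A A' c - algebraMap A A' a * ((s : A') - algebraMap A A' c)) := by
      rw [sub_mul, ← mul_assoc, e1, mul_left_comm, e2, IsScalarTower.algebraMap_apply A A' R',
        IsScalarTower.algebraMap_apply A A' R' a]
      simp only [map_sub, map_mul]
      ring
    rw [e3]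
    exact Ideal.mem_map_of_mem _ (sub_mem (Ideal.mul_mem_right _ _ ha') (Ideal.mul_mem_left _ _ hc')))
    (fun a n h => by
      rwa [← hm, ← Ideal.map_pow, ← Ideal.mem_comap, Ideal.comap_map_eq_self_of_faithfullyFlat] at h)
  letI : Algebra R' (EGA4.Cpl R) :=
    (e.symm.toRingEquiv.toRingHom.comp (algebraMap R' (EGA4.Cpl R'))).toAlgebra
  haveI : IsScalarTower R R' (EGA4.Cpl R) := IsScalarTower.of_algebraMap_eq fun r => by
    show _ = e.symm (algebraMap R' (EGA4.Cpl R') (algebraMap R R' r))
    rw [← IsScalarTower.algebraMap_apply R R' (EGA4.Cpl R'), AlgEquiv.commutes]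
  haveI := FlatLoc6.faithfullyFlat_cpl R'
  haveI : Module.FaithfullyFlat R' (EGA4.Cpl R) := Module.FaithfullyFlat.of_linearEquiv R' (EGA4.Cpl R')
    ({ e.symm.toRingEquiv.toAddEquiv with
        map_smul' := fun r z => by
          show e.symm (r • z) = algebraMap R' (EGA4.Cpl R) r * e.symm z
          rw [Algebra.smul_def, map_mul]
          rfl } : EGA4.Cpl R' ≃ₗ[R'] EGA4.Cpl R).symm
  obtain ⟨huc, hCM⟩ := catenary_and_CM hA q.asIdeal
  -- the primes of the local rings
  have hdisj' : Disjoint (q'.asIdeal.primeCompl : Set A') (p'.asIdeal : Set A') :=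
    Set.disjoint_left.2 fun a ha hap => ha (hpq hap)
  let P' : PrimeSpectrum R' := ⟨p'.asIdeal.map (algebraMap A' R'),
    IsLocalization.isPrime_of_isPrime_disjoint _ _ _ p'.2 hdisj'⟩
  have hP' : P'.asIdeal.comap (algebraMap A' R') = p'.asIdeal :=
    IsLocalization.under_map_of_isPrime_disjoint q'.asIdeal.primeCompl R' p'.2 hdisj'
  let P : PrimeSpectrum R := PrimeSpectrum.comap (algebraMap R R') P'
  have hP : P.asIdeal.comap (algebraMap A R) = p.asIdeal := by
    show (P'.asIdeal.comap (algebraMap R R')).comap (algebraMap A R) = _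
    rw [Ideal.comap_comap, ← IsScalarTower.algebraMap_eq, IsScalarTower.algebraMap_eq A A' R',
      ← Ideal.comap_comap, hP', hcp]
  haveI := P'.2
  haveI := P.2
  obtain ⟨f, hdep, -, hqd⟩ := exists_shift (R := R) (R' := R') hm huc hCM P'.asIdeal P.asIdeal rfl
  rw [(loc_loc q'.asIdeal.primeCompl P'.asIdeal p'.asIdeal hP').1,
    (loc_loc q.asIdeal.primeCompl P.asIdeal p.asIdeal hP).1] at hdep
  have hfd : FlatLoc6.fibDepth A p'.asIdeal A' = (f : ℕ∞) := by
    obtain ⟨h1, -⟩ := FlatLoc6.formulas_self p.asIdeal p'.asIdeal hcp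
    rw [hdep] at h1
    haveI : IsNoetherianRing (Localization.AtPrime p.asIdeal) :=
      IsLocalization.isNoetherianRing p.asIdeal.primeCompl _ inferInstance
    obtain ⟨d, hd⟩ := LC.exists_depth_eq_nat (R := Localization.AtPrime p.asIdeal) (Localization.AtPrime p.asIdeal)
    rw [hd] at h1
    generalize FlatLoc6.fibDepth A p'.asIdeal A' = x at h1 ⊢
    rcases ENat.ne_top_iff_exists.1 (fun ht : x = ⊤ => ENat.natCast_ne_top (d + f) (by
      rw [Nat.cast_add, h1, ht, add_top])) with ⟨k, rfl⟩
    have h1' : d + f = d + k := by exact_mod_cast h1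
    exact_mod_cast (by omega : k = f)
  have hI1 : Order.krullDim (Set.Icc p' q') = ((FormCat.qd R' P'.asIdeal : ℕ∞) : WithBot ℕ∞) := by
    rw [← krullDim_Icc q' P', show PrimeSpectrum.comap (algebraMap A' R') P' = p' from PrimeSpectrum.ext hP']
  have hI2 : Order.krullDim (Set.Icc p q) = ((FormCat.qd R P.asIdeal : ℕ∞) : WithBot ℕ∞) := by
    rw [← krullDim_Icc q P, show PrimeSpectrum.comap (algebraMap A R) P = p from PrimeSpectrum.ext hP]
  rw [hI1, hI2]
  by_cases hE : (⟨p.asIdeal, p.2⟩ : PrimeSpectrum A) ∈ Module.support A M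
  · have hF : (⟨p'.asIdeal, p'.2⟩ : PrimeSpectrum A') ∈ Module.support A' A' := by
      rw [Module.mem_support_iff]
      exact (LC.selfLoc p'.asIdeal.primeCompl).toEquiv.nontrivial
    obtain ⟨hd, -⟩ := FlatLoc6.formulas_atPrime A' M p.asIdeal p'.asIdeal hcp hF hE
    rw [hd, hfd]
    refine ⟨le_self_add, ?_⟩
    rw [← WithBot.coe_add, ← WithBot.coe_add, add_assoc, ← Nat.cast_add, add_comm f, hqd]
  · haveI : Subsingleton (LocalizedModule p.asIdeal.primeCompl M) := Module.notMem_support_iff.1 hE
    have hT : p' ∉ Module.support A' (A' ⊗[A] M) := fun hT =>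
      hE (hp' ▸ ((FlatLoc6.mem_support_tensor_iff _).1 hT).2)
    haveI : Subsingleton (LocalizedModule p'.asIdeal.primeCompl (A' ⊗[A] M)) := Module.notMem_support_iff.1 hT
    haveI : IsNoetherianRing (Localization.AtPrime p.asIdeal) :=
      IsLocalization.isNoetherianRing p.asIdeal.primeCompl _ inferInstance
    haveI : IsNoetherianRing (Localization.AtPrime p'.asIdeal) :=
      IsLocalization.isNoetherianRing p'.asIdeal.primeCompl _ inferInstance
    rw [FlatLoc6.depth_top_of_subsingleton, FlatLoc6.depth_top_of_subsingleton, ← WithBot.coe_add,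
      ← WithBot.coe_add, top_add, top_add]
    exact ⟨le_rfl, rfl⟩

end Groth.Agent.LC.CplDepthDim
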