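import Groth.Agent.LC.CutoffCpl
import Groth.Agent.AvramovLib.Core
import Groth.Agent.CplFib6.CompleteExcellent
import Mathlib.RingTheory.Localization.LocalizationLocalization

/-!
# Depth and dimension along maps with the same completion
-/

set_option autoImplicit false
set_option linter.style.haveILetI false

universe u

open IsLocalRing TensorProduct Order

namespace Groth.Agent.LC.CplDepthDim

/-- Depth and height at a prime of a localization. -/
theorem loc_loc {A : Type u} [CommRing A] (S : Submonoid A) (Q : Ideal (Localization S)) [Q.IsPrime]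
    (p : Ideal A) [p.IsPrime] (hp : Q.comap (algebraMap A (Localization S)) = p) :
    LocCoh.depth (Localization.AtPrime Q) (Localization.AtPrime Q) =
        LocCoh.depth (Localization.AtPrime p) (Localization.AtPrime p) ∧ Q.height = p.height := by
  subst hp
  let e := (IsLocalization.localizationLocalizationAtPrimeIsoLocalization S Q).toRingEquiv
  refine ⟨(Alg6.depth_eq_of_semilinear e.toRingHom e.surjective e.toAddEquiv fun r x => e.map_mul r x).symm, ?_⟩
  have h := ringKrullDim_eq_of_ringEquiv e
  rw [IsLocalization.AtPrime.ringKrullDim_eq_height (Q.comap (algebraMap A (Localization S))) _,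
    IsLocalization.AtPrime.ringKrullDim_eq_height Q _, WithBot.coe_inj] at h
  exact h.symm

set_option maxHeartbeats 1000000 in
/-- A local ring between a local ring and its completion. -/
theorem exists_shift {R R' : Type u} [CommRing R] [IsLocalRing R] [IsNoetherianRing R] [CommRing R'] [IsLocalRing R']
    [IsNoetherianRing R'] [Algebra R R'] [Module.Flat R R'] [Algebra R' (EGA4.Cpl R)]
    [IsScalarTower R R' (EGA4.Cpl R)] [Module.FaithfullyFlat R' (EGA4.Cpl R)]
    (hm : (maximalIdeal R).map (algebraMap R R') = maximalIdeal R')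
    (hR : CAlg.IsUniversallyCatenary R) (hF : EGA4.HasCMFormalFibres R) (P : Ideal R') [P.IsPrime] (p : Ideal R)
    [p.IsPrime] (hp : P.comap (algebraMap R R') = p) :
    ∃ f : ℕ, LocCoh.depth (Localization.AtPrime P) (Localization.AtPrime P) =
        LocCoh.depth (Localization.AtPrime p) (Localization.AtPrime p) + f ∧
      P.height = p.height + f ∧ FormCat.qd R' P + f = FormCat.qd R p := by
  haveI := FlatLoc6.isLocalRing_cpl R
  haveI := FlatLoc6.isNoetherianRing_cpl R
  haveI := FlatLoc6.faithfullyFlat_cpl R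
  haveI := FormCat.isAdicComplete_cpl R
  let C := EGA4.Cpl R
  have hmC : (maximalIdeal R').map (algebraMap R' C) = maximalIdeal C := by
    rw [← hm, Ideal.map_map, ← IsScalarTower.algebraMap_eq]
    exact (AdicCompletion.maximalIdeal_eq_map_of_fg (IsNoetherian.noetherian _)).symm
  haveI : IsLocalHom (algebraMap R' C) := ((local_hom_TFAE _).out 0 2).mpr hmC.le
  have hsupp : ∀ Q : PrimeSpectrum C, Q ∈ Module.support C C := fun Q => by
    rw [Module.mem_support_iff]
    exact (LC.selfLoc Q.asIdeal.primeCompl).toEquiv.nontrivial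
  obtain ⟨a, ha⟩ := ENat.ne_top_iff_exists.1 (Ideal.height_ne_top (I := p) (Ideal.IsPrime.ne_top inferInstance))
  obtain ⟨b, hb⟩ := ENat.ne_top_iff_exists.1 (Ideal.height_ne_top (I := P) (Ideal.IsPrime.ne_top inferInstance))
  -- the data at a minimal prime of `P C`
  have key : ∀ Q : Ideal C, Q ∈ (P.map (algebraMap R' C)).minimalPrimes → ∃ f : ℕ,
      LocCoh.depth (Localization.AtPrime P) (Localization.AtPrime P) =
          LocCoh.depth (Localization.AtPrime p) (Localization.AtPrime p) + f ∧
        P.height = p.height + f ∧ FormCat.qd C Q + f = FormCat.qd R p := by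
    intro Q hQ
    haveI := hQ.1.1
    have hQP : Q.comap (algebraMap R' C) = P := FormCat.under_eq_of_mem_minimalPrimes P hQ
    have hQp : Q.comap (algebraMap R C) = p := by
      rw [IsScalarTower.algebraMap_eq R R' C, ← Ideal.comap_comap, hQP, hp]
    obtain ⟨hd0, hdep0⟩ := FlatLoc6.fib_zero_of_minimal (A := R') C Q (hsupp ⟨Q, inferInstance⟩)
      fun X _ hXQ hc => le_antisymm hXQ (hQ.2 ⟨X.2, Ideal.map_le_iff_le_comap.2 (hQP.ge.trans hc)⟩ hXQ)
    obtain ⟨h1, h2⟩ := FlatLoc6.formulas_self P Q hQP
    rw [hdep0, add_zero] at h1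
    rw [hd0, add_zero, WithBot.coe_inj] at h2
    obtain ⟨h3, h4⟩ := FlatLoc6.formulas_self p Q hQp
    haveI := hF p
    rw [FlatLoc6.fib_eq_of_fiber_isCM p Q hQp, ← WithBot.coe_add, WithBot.coe_inj, h2, ← ha, ← hb] at h4
    rw [h1] at h3
    obtain ⟨f, hf⟩ := ENat.ne_top_iff_exists.1 (fun ht : FlatLoc6.fibDepth R Q C = ⊤ => by
      rw [ht, add_top] at h4; exact ENat.natCast_ne_top b h4)
    rw [← hf] at h3 h4
    refine ⟨f, h3, by rw [← hb, ← ha]; exact h4, ?_⟩
    haveI : IsLocalRing (R ⧸ p) := .of_surjective' _ Ideal.Quotient.mk_surjective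
    let π := Ideal.Quotient.mk (p.map (algebraMap R C))
    have hpQ : p.map (algebraMap R C) ≤ Q := Ideal.map_le_iff_le_comap.2 hQp.ge
    haveI : IsLocalRing (C ⧸ p.map (algebraMap R C)) :=
      haveI : Nontrivial (C ⧸ p.map (algebraMap R C)) :=
        Ideal.Quotient.nontrivial_iff.2 (ne_top_of_le_ne_top (Ideal.IsPrime.ne_top inferInstance) hpQ)
      .of_surjective' _ Ideal.Quotient.mk_surjective
    haveI : (Q.map π).IsPrime :=
      Ideal.map_isPrime_of_surjective Ideal.Quotient.mk_surjective (by rwa [Ideal.mk_ker])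
    have hfe := PopescuLib.Ratliff.isFormallyCatenary R hR p
    rw [FormCat.isFormallyEquidim_quotient_iff] at hfe
    have h5 := FlatLoc6.height_add_ringKrullDim_quotient hfe
      ((CplFib6.isUniversallyCatenary_of_complete C).2 _ inferInstance) (Q.map π)
    haveI : Q.LiesOver p := ⟨hQp.symm⟩
    have h6 := Ideal.height_eq_height_add_of_liesOver_of_hasGoingDown p Q
    rw [FormCat.ringKrullDim_cpl_quotient,
      ringKrullDim_eq_of_ringEquiv (DoubleQuot.quotQuotEquivQuotOfLE hpQ),
      FormCat.coe_qd R p (Ideal.IsPrime.ne_top inferInstance),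
      FormCat.coe_qd C Q (Ideal.IsPrime.ne_top inferInstance)] at h5
    rw [h2, ← hb, ← ha] at h6
    obtain ⟨c, hc⟩ := ENat.ne_top_iff_exists.1 (Ideal.height_ne_top (I := Q.map π) (Ideal.IsPrime.ne_top inferInstance))
    rw [← hc] at h5 h6
    have h5' : c + FormCat.qd C Q = FormCat.qd R p := by exact_mod_cast h5
    have h6' : b = a + c := by exact_mod_cast h6
    have h4' : b = a + f := by exact_mod_cast h4
    omega
  have hne : P.map (algebraMap R' C) ≠ ⊤ := fun ht => (Ideal.IsPrime.ne_top ‹P.IsPrime›) (by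
    rw [← Ideal.comap_map_eq_self_of_faithfullyFlat (B := C) P, ht, Ideal.comap_top])
  obtain ⟨Q₀, hQ₀⟩ := Ideal.nonempty_minimalPrimes hne
  obtain ⟨f, hdep, hht, hqd⟩ := key Q₀ hQ₀
  refine ⟨f, hdep, hht, ?_⟩
  haveI := hQ₀.1.1
  have hQP₀ : Q₀.comap (algebraMap R' C) = P := FormCat.under_eq_of_mem_minimalPrimes P hQ₀
  have hmB : FormCat.qd C (EGA4.mB R' C) = 0 := by
    have h := FormCat.coe_qd C (EGA4.mB R' C) (hmC.trans_ne (maximalIdeal.isMaximal C).ne_top)
    rw [show EGA4.mB R' C = maximalIdeal C from hmC] at h ⊢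
    letI := Ideal.Quotient.field (maximalIdeal C)
    rw [ringKrullDim_eq_zero_of_field] at h
    exact_mod_cast h.symm
  have hle := FormCat.qd_le R' C Q₀
  rw [show Q₀.under R' = P from hQP₀, hmB, add_zero] at hle
  have hge : FormCat.qd R' P ≤ FormCat.qd C Q₀ := by
    have h1 := FlatLoc6.ringKrullDim_add_fibre_le (A := R') (B := C) (fun q hq hne Q hQ => by
      haveI := hq
      haveI := hQ.1.1
      rw [show Q.comap (algebraMap R' C) = q from FormCat.under_eq_of_mem_minimalPrimes q hQ]
      exact hne) P (le_maximalIdeal (Ideal.IsPrime.ne_top inferInstance))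
    have h2 : ringKrullDim (C ⧸ P.map (algebraMap R' C)) ≤ (FormCat.qd C Q₀ : WithBot ℕ∞) := by
      refine PopescuLib.Ratliff.ringKrullDim_le_of_minimalPrimes _ fun x hx => ?_
      haveI := hx.1.1
      have hxc : x.comap (Ideal.Quotient.mk (P.map (algebraMap R' C))) ∈ (P.map (algebraMap R' C)).minimalPrimes := by
        rw [Ideal.minimalPrimes_eq_comap]; exact ⟨x, hx, rfl⟩
      obtain ⟨g, -, hg, hgq⟩ := key _ hxc
      have hk : RingHom.ker ((Ideal.Quotient.mk x).comp (Ideal.Quotient.mk (P.map (algebraMap R' C)))) =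
          x.comap (Ideal.Quotient.mk (P.map (algebraMap R' C))) := by rw [← RingHom.comap_ker, Ideal.mk_ker]
      rw [← ringKrullDim_eq_of_ringEquiv ((Ideal.quotEquivOfEq hk.symm).trans
        (RingHom.quotientKerEquivOfSurjective (Ideal.Quotient.mk_surjective.comp Ideal.Quotient.mk_surjective))),
        FormCat.coe_qd C _ (Ideal.IsPrime.ne_top inferInstance)]
      rw [hht, ← ha] at hg
      have hfg : a + f = a + g := by exact_mod_cast hg
      exact_mod_cast (by omega : FormCat.qd C (x.comap (Ideal.Quotient.mk (P.map (algebraMap R' C)))) ≤ FormCat.qd C Q₀)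
    have h3 := h1.trans h2
    change ringKrullDim (R' ⧸ P) + ringKrullDim (C ⧸ EGA4.mB R' C) ≤ _ at h3
    rw [FormCat.coe_qd R' P (Ideal.IsPrime.ne_top inferInstance),
      FormCat.coe_qd C _ (hmC.trans_ne (maximalIdeal.isMaximal C).ne_top), hmB] at h3
    simp only [Nat.cast_zero, add_zero] at h3
    exact_mod_cast h3
  omega

/-- The chain length from a prime of a local ring to the closed point. -/
theorem height_closedPoint_eq {R : Type u} [CommRing R] [IsLocalRing R] [IsNoetherianRing R] (p : PrimeSpectrum R) :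
    Order.height (⟨closedPoint R, le_maximalIdeal p.2.ne_top⟩ : Set.Ici p) = (FormCat.qd R p.asIdeal : ℕ∞) := by
  haveI : IsLocalRing (R ⧸ p.asIdeal) := .of_surjective' _ Ideal.Quotient.mk_surjective
  rw [height_Ici_eq p (closedPoint R) (le_maximalIdeal p.2.ne_top)]
  show ((maximalIdeal R).map _).height = _
  rw [IsLocalRing.map_maximalIdeal_of_surjective _ Ideal.Quotient.mk_surjective]
  have h := IsLocalRing.maximalIdeal_height_eq_ringKrullDim (R := R ⧸ p.asIdeal)
  rw [FormCat.coe_qd R p.asIdeal p.2.ne_top] at h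
  exact WithBot.coe_inj.1 h

/-- The dimension of an interval of primes. -/
theorem krullDim_Icc {A : Type u} [CommRing A] (q : PrimeSpectrum A) (P : PrimeSpectrum (Localization.AtPrime q.asIdeal))
    [IsNoetherianRing A] :
    Order.krullDim (Set.Icc (PrimeSpectrum.comap (algebraMap A (Localization.AtPrime q.asIdeal)) P) q) =
      ((FormCat.qd (Localization.AtPrime q.asIdeal) P.asIdeal : ℕ∞) : WithBot ℕ∞) := by
  rw [← height_closedPoint_eq P, CutoffCpl.height_Ici_atPrime q P (closedPoint _) (le_maximalIdeal P.2.ne_top)]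
  have hq : PrimeSpectrum.comap (algebraMap A (Localization.AtPrime q.asIdeal)) (closedPoint _) = q :=
    PrimeSpectrum.ext Localization.AtPrime.under_maximalIdeal
  have key : ∀ (p c : PrimeSpectrum A) (h : p ≤ c), c = q →
      Order.krullDim (Set.Icc p q) = ((Order.height (⟨c, h⟩ : Set.Ici p) : ℕ∞) : WithBot ℕ∞) := by
    intro p c h hc
    subst hc
    rw [Order.height_eq_krullDim_Iic]
    exact Order.krullDim_eq_of_orderIso
      { toFun := fun x => ⟨⟨x.1, x.2.1⟩, x.2.2⟩
        invFun := fun y => ⟨y.1.1, y.1.2, y.2⟩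
        left_inv := fun _ => rfl
        right_inv := fun _ => rfl
        map_rel_iff' := Iff.rfl }
  exact key _ _ _ hq

end Groth.Agent.LC.CplDepthDim
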