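import Groth.Agent.LC.ExtDim
import Groth.Agent.LC.GorRows
import Groth.Agent.LC.GorHull

/-! Ext into a regular local ring out of modules with small support. -/

set_option linter.style.haveILetI false

universe u

open CategoryTheory IsLocalRing

namespace Groth.Agent.LC

theorem subsingleton_ext_of_supportDim_add_le (A : Type u) [CommRing A] [IsRegularLocalRing A] (M : Type u)
    [AddCommGroup M] [Module A M] [Module.Finite A M] (p : ℕ)
    (hdim : Module.supportDim A M + p ≤ ringKrullDim A) (i : ℕ) (hi : i < p) :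
    Subsingleton (Abelian.Ext (ModuleCat.of A M) (ModuleCat.of A A) i) := by
  rcases subsingleton_or_nontrivial M with hM | hM
  · refine subsingleton_of_forall_eq 0 fun x => ?_
    have h0 : 𝟙 (ModuleCat.of A M) = 0 :=
      ModuleCat.hom_ext (LinearMap.ext fun m => Subsingleton.elim _ _)
    rw [← Abelian.Ext.mk₀_id_comp x, h0, Abelian.Ext.mk₀_zero, Abelian.Ext.zero_comp]
  obtain ⟨D, hD⟩ := exists_supportDim_eq_nat M (R := A)
  haveI := gorenstein_of_isRegularLocalRing (R := A)
  haveI := isCohenMacaulayLocalRing_of_gorenstein (R := A)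
  have hCM : LocCoh.IsCohenMacaulayModule A A := LocCoh.IsCohenMacaulayLocalRing.supportDim_eq_depth
  rw [LocCoh.IsCohenMacaulayModule, Module.supportDim_self_eq_ringKrullDim] at hCM
  refine subsingleton_ext_of_add_lt_depth A M D i hD.le ?_
  rw [hD, hCM] at hdim
  have h1 : ((D + p : ℕ) : ℕ∞) ≤ LocCoh.depth A A := by
    have : (((D + p : ℕ) : ℕ∞) : WithBot ℕ∞) ≤ ((LocCoh.depth A A : ℕ∞) : WithBot ℕ∞) := by
      refine le_trans (le_of_eq ?_) hdim
      push_cast
      rfl
    exact WithBot.coe_le_coe.1 this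
  exact lt_of_lt_of_le (Nat.cast_lt.2 (by omega)) h1

end Groth.Agent.LC
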