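import Groth.Agent.LC.CohBasic
import Mathlib.Algebra.Category.ModuleCat.EnoughInjectives
import Mathlib.Algebra.Category.ModuleCat.Projective

/-! Ext classes from a module all come from one universal class in each degree. -/

set_option autoImplicit false
universe u

open CategoryTheory Limits Abelian

namespace Groth.Agent.LC

variable {R : Type u} [CommRing R]

/-- A universal class in degree `d ≥ 1`: every class is a pushforward of it. -/
theorem exists_universal_ext : ∀ (d : ℕ) (X : ModuleCat.{u} R), ∃ (Ω : ModuleCat.{u} R) (w : Ext X Ω d),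
    ∀ (N : ModuleCat.{u} R) (ξ : Ext X N d), ∃ ψ : Ω ⟶ N, w.comp (Ext.mk₀ ψ) (add_zero d) = ξ
  | 0, X => ⟨X, Ext.mk₀ (𝟙 X), fun N ξ => by
      obtain ⟨φ, rfl⟩ := (Ext.mk₀_bijective _ _).2 ξ
      exact ⟨φ, Ext.mk₀_id_comp _⟩⟩
  | d + 1, X => by
    let p := Projective.π X
    let S := ShortComplex.mk (kernel.ι p) p (kernel.condition p)
    have hS : S.ShortExact := { exact := ShortComplex.exact_of_f_is_kernel _ (kernelIsKernel p) }
    obtain ⟨Ω, w, hw⟩ := exists_universal_ext d (kernel p)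
    refine ⟨Ω, hS.extClass.comp w (by omega), fun N ξ => ?_⟩
    obtain ⟨η, rfl⟩ := Ext.contravariant_sequence_exact₃ hS N ξ (Ext.eq_zero_of_projective _) (n₀ := d) (by omega)
    obtain ⟨ψ, rfl⟩ := hw N η
    exact ⟨ψ, Ext.comp_assoc _ _ _ _ _ (by omega)⟩

variable (I : Ideal R)

/-- Above the cohomological dimension, one transition map kills all classes of every module. -/
theorem exists_res_eq_zero_above_cd [IsNoetherianRing R] (e : ℕ) (he : LocCoh.CdLE R I e) (n : ℕ) :
    ∃ (m : ℕ) (h : n ≤ m), ∀ (i : ℕ), e < i → ∀ (N : ModuleCat.{u} R) (ξ : Ext (qObj I n) N i),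
      res I h i N ξ = 0 := by
  obtain ⟨Ω, w, hw⟩ := exists_universal_ext (e + 1) (qObj I n)
  obtain ⟨m, h, hm⟩ := (toH_eq_zero_iff I (e + 1) w).1 (@Subsingleton.elim _ (he Ω (e + 1) (by omega)) _ _)
  refine ⟨m, h, fun i hi => ?_⟩
  obtain ⟨j, rfl⟩ := Nat.exists_eq_add_of_le (hi : e + 1 ≤ i)
  induction j with
  | zero =>
    intro N ξ
    obtain ⟨ψ, rfl⟩ := hw N ξ
    rw [res_comp I h (add_zero (e + 1)), hm, Ext.zero_comp]
  | succ j ih =>
    intro N ξ
    let S := ShortComplex.mk (Injective.ι N) (cokernel.π (Injective.ι N)) (cokernel.condition _)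
    have hS : S.ShortExact := { exact := ShortComplex.exact_of_g_is_cokernel _ (cokernelIsCokernel _) }
    obtain ⟨η, rfl⟩ := Ext.covariant_sequence_exact₁ _ hS ξ (Ext.eq_zero_of_injective _)
      (n₀ := e + 1 + j) (by omega)
    have hc : e + 1 + j + 1 = e + 1 + (j + 1) := by omega
    rw [res_comp I h hc, ih (by omega) _ η, Ext.zero_comp]

end Groth.Agent.LC
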