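import Groth.Agent.PopescuLib.Ratliff
import Groth.Agent.DimFormula.Catenary
import Groth.Agent.CAlgOdd.NagataFT.Local
import Groth.Agent.NagataLib.Localization
import Groth.Agent.CILib.Basic

/-!
# Dimensions of associated components of completions
-/

set_option autoImplicit false
set_option linter.style.haveILetI false

universe u

open IsLocalRing

namespace Groth.Agent.LC.H1Rows

/-- Associated primes of a reduced Noetherian ring are minimal. -/
theorem mem_minimalPrimes_of_isReduced {C : Type u} [CommRing C] [IsNoetherianRing C] [IsReduced C] {P : Ideal C}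
    (hP : P ∈ associatedPrimes C C) : P ∈ minimalPrimes C := by
  obtain ⟨hPp, x, hx⟩ := isAssociatedPrime_iff.1 ((AssociatedPrimes.mem_iff).1 hP)
  have hx0 : x ≠ 0 := fun h0 => hPp.ne_top (by
    rw [hx, h0, Ideal.eq_top_iff_one, Submodule.mem_colon_singleton, smul_zero]; exact zero_mem _)
  obtain ⟨Q, hQ, hxQ⟩ : ∃ Q ∈ minimalPrimes C, x ∉ Q := by
    by_contra hne
    push Not at hne
    refine hx0 ((Submodule.mem_bot C).1 ?_)
    have h : x ∈ nilradical C := by
      rw [nilradical_eq_sInf, Submodule.mem_sInf]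
      intro R hR
      obtain ⟨Q, hQ, hle⟩ := (haveI : Ideal.IsPrime R := hR
        Ideal.exists_minimalPrimes_le (bot_le : (⊥ : Ideal C) ≤ R))
      exact hle (hne Q hQ)
    rwa [nilradical_eq_zero] at h
  have hle : P ≤ Q := fun a ha => by
    rw [hx, Submodule.mem_colon_singleton, Submodule.mem_bot, smul_eq_mul] at ha
    exact (hQ.1.1.mem_or_mem (ha ▸ Q.zero_mem)).resolve_right hxQ
  exact (le_antisymm hle (hQ.2 ⟨hPp, bot_le⟩ hle)) ▸ hQ

variable {A : Type u} [CommRing A] [IsNoetherianRing A]

/-- The local ring of `A / p` at `q`. -/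
abbrev quot (p q : PrimeSpectrum A) : Type u :=
  Localization.AtPrime q.asIdeal ⧸ p.asIdeal.map (algebraMap A (Localization.AtPrime q.asIdeal))

omit [IsNoetherianRing A] in
theorem isPrime_map {p q : PrimeSpectrum A} (hpq : p ≤ q) :
    (p.asIdeal.map (algebraMap A (Localization.AtPrime q.asIdeal))).IsPrime :=
  IsLocalization.isPrime_of_isPrime_disjoint q.asIdeal.primeCompl _ _ p.isPrime
    (Set.disjoint_left.2 fun _ ha hb => ha (hpq hb))

omit [IsNoetherianRing A] in
theorem two_le_dim_quot {p q : PrimeSpectrum A} (hpq : p ≤ q) (h : (2 : ℕ∞) ≤ Order.height (⟨q, hpq⟩ : Set.Ici p)) :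
    (2 : WithBot ℕ∞) ≤ ringKrullDim (quot p q) := by
  obtain ⟨l, hl, hlen⟩ := Order.exists_series_of_le_height (⟨q, hpq⟩ : Set.Ici p) (n := 2) (by exact_mod_cast h)
  let Aq := Localization.AtPrime q.asIdeal
  let g : Fin (l.length + 1) → PrimeSpectrum (quot p q) := fun i => by
    have hiq : (l i).1 ≤ q := (l.monotone (Fin.le_last i) : l i ≤ l.last).trans hl.le
    have hd : Disjoint (q.asIdeal.primeCompl : Set A) (l i).1.asIdeal := Set.disjoint_left.2 fun _ ha hb => ha (hiq hb)
    haveI := IsLocalization.isPrime_of_isPrime_disjoint q.asIdeal.primeCompl Aq _ (l i).1.isPrime hd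
    exact ⟨((l i).1.asIdeal.map (algebraMap A Aq)).map (Ideal.Quotient.mk _),
      Ideal.map_isPrime_of_surjective Ideal.Quotient.mk_surjective
        (by rw [Ideal.mk_ker]; exact Ideal.map_mono (l i).2)⟩
  have hg : ∀ i, (g i).asIdeal.comap ((Ideal.Quotient.mk _).comp (algebraMap A Aq)) = (l i).1.asIdeal := fun i => by
    have hiq : (l i).1 ≤ q := (l.monotone (Fin.le_last i) : l i ≤ l.last).trans hl.le
    rw [← Ideal.comap_comap]
    show Ideal.comap _ (Ideal.comap _ (Ideal.map _ (Ideal.map _ _))) = _
    rw [Ideal.comap_map_of_surjective _ Ideal.Quotient.mk_surjective, ← RingHom.ker_eq_comap_bot, Ideal.mk_ker,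
      sup_eq_left.2 (Ideal.map_mono (show p.asIdeal ≤ (l i).1.asIdeal from (l i).2))]
    exact IsLocalization.comap_map_of_isPrime_disjoint q.asIdeal.primeCompl Aq (l i).1.isPrime
      (Set.disjoint_left.2 fun _ ha hb => ha (hiq hb))
  have hmono : StrictMono g := fun i j hij => by
    have hlt : (l i).1 < (l j).1 := l.strictMono hij
    refine lt_of_le_of_ne (Ideal.map_mono (Ideal.map_mono hlt.le)) fun he => hlt.ne (PrimeSpectrum.ext ?_)
    rw [← hg i, he, hg j]
  have := Order.LTSeries.length_le_krullDim (LTSeries.mk l.length g hmono)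
  rw [show (LTSeries.mk l.length g hmono).length = 2 from hlen] at this
  exact this

/-- Components of formally equidimensional local rings. -/
theorem two_le_dim_of_minimal {D : Type u} [CommRing D] [IsNoetherianRing D] [IsLocalRing D]
    (hD : EGA4.IsFormallyEquidim D) (h : (2 : WithBot ℕ∞) ≤ ringKrullDim D) {P : Ideal (EGA4.Cpl D)}
    (hP : P ∈ minimalPrimes (EGA4.Cpl D)) : (2 : WithBot ℕ∞) ≤ ringKrullDim (EGA4.Cpl D ⧸ P) := by
  rw [hD P hP, CILib.ringKrullDim_adicCompletion]
  exact h

/-- Formal equidimensionality of the local rings of quotients of universally catenary rings. -/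
theorem isFormallyEquidim_quot (hA : CAlg.IsUniversallyCatenary A) {p q : PrimeSpectrum A} (hpq : p ≤ q)
    [IsLocalRing (quot p q)] : EGA4.IsFormallyEquidim (quot p q) := by
  haveI := isPrime_map hpq
  obtain ⟨k, hk⟩ := ENat.ne_top_iff_exists.mp (Ideal.height_ne_top (maximalIdeal.isMaximal (quot p q)).ne_top)
  refine PopescuLib.Ratliff.isFormallyEquidim_of_dim_le k (quot p q)
    (DimFormula.isUniversallyCatenary_of_surjective
      (DimFormula.isUniversallyCatenary_localization hA q.asIdeal.primeCompl (Localization.AtPrime q.asIdeal))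
      (Ideal.Quotient.mk _) Ideal.Quotient.mk_surjective) ?_
  rw [← IsLocalRing.maximalIdeal_height_eq_ringKrullDim, ← hk]
  rfl

/-- Completions of local rings of Nagata domains are reduced. -/
theorem isReduced_cpl_quot (hA : CAlg.IsNagata A) {p q : PrimeSpectrum A} (hpq : p ≤ q) [IsLocalRing (quot p q)] :
    IsReduced (EGA4.Cpl (quot p q)) := by
  haveI := isPrime_map hpq
  exact CAlgOdd.NagataFT.isReduced_cpl _ (N12Aux.isNagata_of_surjective (Ideal.Quotient.mk _) Ideal.Quotient.mk_surjective
    (NagataLib.isNagata_of_isLocalization hA q.asIdeal.primeCompl (Localization.AtPrime q.asIdeal)))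

end Groth.Agent.LC.H1Rows
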