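import Groth.Agent.LC.H1Rows
import Groth.Agent.LC.H1Fin
import Groth.Agent.FlatLoc6.FiberComp
import Groth.Agent.FlatLoc6.FiberRing

/-!
# Associated primes of completions with `(S₁)` formal fibres
-/

set_option autoImplicit false
set_option linter.style.haveILetI false

universe u

open IsLocalRing TensorProduct

namespace Groth.Agent.LC.H1Rows

/-- With `(S₁)` fibres the associated primes of `C / pC` are minimal over `pC`. -/
theorem eq_of_le_ass_of_hasS1 {B C : Type u} [CommRing B] [CommRing C] [IsNoetherianRing B] [IsNoetherianRing C]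
    [Algebra B C] [Module.Flat B C] (p : Ideal B) [p.IsPrime]
    (hS : LocCoh.HasSk 1 (p.Fiber C) (p.Fiber C)) {P : Ideal C}
    (hP : P ∈ associatedPrimes C (C ⧸ p.map (algebraMap B C))) {R : Ideal C} [R.IsPrime]
    (hpR : p.map (algebraMap B C) ≤ R) (hRP : R ≤ P) : R = P := by
  haveI hPp : P.IsPrime := hP.isPrime
  have hpP : p.map (algebraMap B C) ≤ P := hpR.trans hRP
  have hcomap : P.comap (algebraMap B C) = p := by
    refine le_antisymm (fun b hb => ?_) (Ideal.map_le_iff_le_comap.1 hpP)
    by_contra hbp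
    have hreg : IsSMulRegular (B ⧸ p) b := isSMulRegular_iff_right_eq_zero_of_smul.2 fun x hx => by
      obtain ⟨x, rfl⟩ := Ideal.Quotient.mk_surjective x
      exact Ideal.Quotient.eq_zero_iff_mem.2
        (((inferInstance : p.IsPrime).mem_or_mem (Ideal.Quotient.eq_zero_iff_mem.1 hx)).resolve_left hbp)
    have h1 : IsSMulRegular (C ⊗[B] (B ⧸ p)) b := IsSMulRegular.lTensor C hreg
    let e := (Algebra.TensorProduct.quotIdealMapEquivTensorQuot C p).toLinearEquiv
    obtain ⟨hPp', x, hx⟩ := isAssociatedPrime_iff.1 ((AssociatedPrimes.mem_iff).1 hP)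
    have h2 : algebraMap B C b • x = 0 := by
      have := hb
      rw [Ideal.mem_comap, hx, Submodule.mem_colon_singleton, Submodule.mem_bot] at this
      exact this
    have h3 : e x = 0 := by
      refine isSMulRegular_iff_right_eq_zero_of_smul.1 h1 _ ?_
      rw [← IsScalarTower.algebraMap_smul C b (e x), ← map_smul, h2, map_zero]
    refine hPp'.ne_top ?_
    rw [hx, e.map_eq_zero_iff.1 h3, Ideal.eq_top_iff_one, Submodule.mem_colon_singleton, smul_zero]
    exact zero_mem _
  obtain ⟨-, hdep⟩ := FlatLoc6.fib_eq_loc p P hcomap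
  have h0 : ¬ (1 : ℕ∞) ≤ LocCoh.depth (Localization.AtPrime P) (LocalizedModule P.primeCompl (C ⧸ p.map (algebraMap B C))) :=
    fun h => (Alg6.one_le_depth_atPrime_iff (p := P)).1 h hP
  have hle := FlatLoc6.fib_le_of_fiber_hasSk 1 p P hcomap hS
  rw [hdep, FlatLoc6.fibDim_self] at hle
  haveI := FlatLoc6.isLocalRing_fibLocRing (A := B) P
  have hd : ringKrullDim (EGA4.FibLocRing B C P) ≤ 0 := by
    rw [Order.one_le_iff_ne_zero, not_not] at h0
    rw [h0, min_le_iff] at hle
    refine hle.resolve_left fun h => ?_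
    exact absurd h (by simp)
  haveI : Ring.KrullDimLE 0 (EGA4.FibLocRing B C P) := Ring.krullDimLE_iff.2 hd
  let L := Localization.AtPrime P
  let J := (P.comap (algebraMap B C)).map (algebraMap B L)
  have hJR : J ≤ R.map (algebraMap C L) := by
    show (P.comap (algebraMap B C)).map (algebraMap B L) ≤ _
    rw [hcomap, IsScalarTower.algebraMap_eq B C L, ← Ideal.map_map]
    exact Ideal.map_mono hpR
  have hd' : Disjoint (P.primeCompl : Set C) R := Set.disjoint_left.2 fun _ ha hb => ha (hRP hb)
  haveI := IsLocalization.isPrime_of_isPrime_disjoint P.primeCompl L R ‹R.IsPrime› hd'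
  haveI hp' : ((R.map (algebraMap C L)).map (Ideal.Quotient.mk J)).IsPrime :=
    Ideal.map_isPrime_of_surjective Ideal.Quotient.mk_surjective (by rw [Ideal.mk_ker]; exact hJR)
  have hm := hp'.isMaximal'
  have hm' : (R.map (algebraMap C L)).IsMaximal := by
    have := Ideal.comap_isMaximal_of_surjective (Ideal.Quotient.mk J) Ideal.Quotient.mk_surjective (H := hm)
    rwa [Ideal.comap_map_of_surjective _ Ideal.Quotient.mk_surjective, ← RingHom.ker_eq_comap_bot, Ideal.mk_ker,
      sup_eq_left.2 hJR] at this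
  rw [← IsLocalization.under_map_of_isPrime_disjoint P.primeCompl L ‹R.IsPrime› hd', IsLocalRing.eq_maximalIdeal hm',
    Localization.AtPrime.under_maximalIdeal]

end Groth.Agent.LC.H1Rows
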