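import Groth.Agent.SheafHomX.Extra
import Groth.Agent.SheafHomX.Main
import Groth.Agent.AmpleX.QAGenerated
import Groth.Agent.KFlatLib.Perfect.Local
import Groth.Agent.FFun.Basic
import Groth.Prelude.Def_Wider

/-! Annihilators of the cohomology of finite locally free modules on quasi-affine schemes. -/

set_option linter.style.haveILetI false
set_option backward.isDefEq.respectTransparency false
set_option backward.isDefEq.respectTransparency.types false

universe u

open CategoryTheory CategoryTheory.Limits AlgebraicGeometry TopologicalSpace Opposite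
open Groth.Agent.PnCoh.Finite (mapLin)

namespace Groth.Agent.LCPunct

open Groth.Agent

variable {X : Scheme.{u}}

/-- Finitely many global sections generate a module of finite type on a quasi-affine scheme. -/
theorem exists_generatedBy [X.IsQuasiAffine] {F : X.Modules} (hF : Coh.IsQCoh F) (hft : CohB1.IsFT F) :
    ∃ (k : ℕ) (s : Fin k → Γ(F, ⊤)), ProjUP.GeneratedBy F s := by
  classical
  have hloc : ∀ x : X, ∃ r : Γ(X, ⊤), IsAffineOpen (X.basicOpen r) ∧ x ∈ X.basicOpen r := fun x => by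
    obtain ⟨_, ⟨_, ⟨r, hr, rfl⟩, rfl⟩, hxr, -⟩ :=
      (Scheme.IsQuasiAffine.isBasis_basicOpen X).exists_subset_of_mem_open (Set.mem_univ x) isOpen_univ
    exact ⟨r, hr, hxr⟩
  choose r hr hxr using hloc
  obtain ⟨S, hS⟩ := isCompact_univ.elim_finite_subcover (fun x => (X.basicOpen (r x) : Set X))
    (fun x => (X.basicOpen (r x)).2) (fun x _ => Set.mem_iUnion.2 ⟨x, hxr x⟩)
  have hgen : ∀ x : X, ∃ G : Finset Γ(F, X.basicOpen (r x)), Submodule.span Γ(X, X.basicOpen (r x)) (G : Set Γ(F, X.basicOpen (r x))) = ⊤ :=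
    fun x => (QCoh.finite_of_isFT hF hft (hr x)).fg_top
  choose G hG using hgen
  choose m T hT using fun (x : X) (t : Γ(F, X.basicOpen (r x))) =>
    QCoh.exists_pow_smul_eq_map_of_isQuasiSeparated hF isCompact_univ isQuasiSeparated_univ (r x) t
  let ι := Σ x : S, G x.1
  let e := (Fintype.equivFin ι).symm
  refine ⟨Fintype.card ι, fun j => T (e j).1.1 (e j).2.1, fun y => ?_⟩
  obtain ⟨x, hxS, hy⟩ := Set.mem_iUnion₂.1 (hS (Set.mem_univ y))
  letI := QCoh.stalkAlg (X := X) hy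
  letI := QCoh.stalkModule F hy
  haveI := QCoh.isScalarTower_stalk F hy
  haveI := QCoh.isLocalization_stalk' (hr x) hy
  haveI := QCoh.isLocalizedModule_germLin hF (hr x) hy
  have h1 : Submodule.localized' (X.presheaf.stalk y) ((hr x).primeIdealOf ⟨y, hy⟩).asIdeal.primeCompl
      (QCoh.germLin F hy) (Submodule.span Γ(X, X.basicOpen (r x)) (G x : Set Γ(F, X.basicOpen (r x)))) = ⊤ := by
    rw [hG, Submodule.localized'_top]
  rw [Submodule.localized'_span] at h1
  refine top_le_iff.1 (h1.ge.trans (Submodule.span_le.2 ?_))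
  rintro _ ⟨t, ht, rfl⟩
  have hu : IsUnit (X.presheaf.germ (X.basicOpen (r x)) y hy (AModX.resR (X.basicOpen_le (r x)) (r x) ^ m x t)) :=
    ((AModX.isUnit_resR _ _ le_rfl).pow _).map _
  have h2 : F.presheaf.germ ⊤ y trivial (T x t) =
      X.presheaf.germ (X.basicOpen (r x)) y hy (AModX.resR (X.basicOpen_le (r x)) (r x) ^ m x t) •
        F.presheaf.germ (X.basicOpen (r x)) y hy t := by
    rw [← InvX.germ_res' (X.basicOpen_le (r x)) hy (T x t),
      show AModX.res F (X.basicOpen_le (r x)) (T x t) = _ from hT x t]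
    exact QCoh.germ_smul' F hy _ _
  show F.presheaf.germ (X.basicOpen (r x)) y hy t ∈ _
  rw [SetLike.mem_coe, ← Submodule.smul_mem_iff_of_isUnit _ hu, ← h2]
  refine Submodule.subset_span ⟨e.symm ⟨⟨x, hxS⟩, ⟨t, ht⟩⟩, ?_⟩
  show (F.presheaf.germ ⊤ y trivial).hom (T (e (e.symm _)).1.1 (e (e.symm _)).2.1) = _
  rw [e.apply_symm_apply]

variable {A : Type u} [CommRing A] [X.Over (Spec (CommRingCat.of A))]

/-- A scalar power of the identity factors through a free module near each point. -/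
theorem exists_factor [CompactSpace X] [QuasiSeparatedSpace X] {F : X.Modules} (hF : FlatMod.IsFinLocFree F)
    {k : ℕ} (p : FlatMod.freeMod X k ⟶ F) [Epi p] (x : X)
    (hbasis : ∀ W : X.Opens, x ∈ W → ∃ f : A, x ∈ X.basicOpen (SheafHomX.glob X f) ∧ X.basicOpen (SheafHomX.glob X f) ≤ W) :
    ∃ f : A, x ∈ X.basicOpen (SheafHomX.glob X f) ∧ ∃ (m : ℕ) (a : F ⟶ FlatMod.freeMod X k),
      a ≫ p = Formal.smulMod A F (f ^ m) := by
  obtain ⟨W, h, hxW, hh⟩ := KFlatLib.exists_lift hF p (𝟙 F) x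
  rw [CategoryTheory.Functor.map_id] at hh
  obtain ⟨f, hxf, hfW⟩ := hbasis W hxW
  let g := SheafHomX.glob X f
  let D := X.basicOpen g
  let O := FlatMod.freeMod X k
  let C : (SheafHomX.hom F).obj O ⟶ (SheafHomX.hom F).obj F := (SheafHomX.hom F).map p
  let R := Scheme.Modules.restrictFunctor W.ι
  have hc : ∀ V : X.Opens, V ≤ W → Function.Surjective (C.app V) := by
    have hs : ∃ c' : R.obj ((SheafHomX.hom F).obj F) ⟶ R.obj ((SheafHomX.hom F).obj O), c' ≫ R.map C = 𝟙 _ := by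
      refine ⟨(SheafHomX.restrictIso W.ι F).hom.app F ≫ (SheafHomX.hom (R.obj F)).map h ≫
        (SheafHomX.restrictIso W.ι F).inv.app O, ?_⟩
      have hn := (SheafHomX.restrictIso W.ι F).inv.naturality p
      dsimp at hn
      rw [Category.assoc, Category.assoc, ← hn, ← Functor.map_comp_assoc, hh, CategoryTheory.Functor.map_id,
        Category.id_comp]
      exact (SheafHomX.restrictIso W.ι F).hom_inv_id_app F
    obtain ⟨c', hc'⟩ := hs
    intro V hV z
    have hV' : W.ι ''ᵁ (W.ι ⁻¹ᵁ V) = V := by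
      rw [Scheme.Hom.image_preimage_eq_opensRange_inf, Scheme.Opens.opensRange_ι, inf_eq_right.2 hV]
    have key : ∀ V' : X.Opens, W.ι ''ᵁ (W.ι ⁻¹ᵁ V) = V' → Function.Surjective (C.app V') := by
      rintro _ rfl z
      exact ⟨c'.app (W.ι ⁻¹ᵁ V) z, congr(($hc').app (W.ι ⁻¹ᵁ V) z)⟩
    exact key V hV' z
  let Hq : X.Modules := (SheafHomX.hom F).obj F
  have hHq : Coh.IsQCoh Hq := QCoh.isQCoh_of_isFinLocFree (SheafHomX.isFinLocFree_hom hF hF)
  have hfree : FlatMod.IsFinLocFree O := fun y => ⟨⊤, k, trivial, ⟨QCoh.freeModRestrict _ k⟩⟩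
  have hHO : Coh.IsQCoh ((SheafHomX.hom F).obj O) := QCoh.isQCoh_of_isFinLocFree (SheafHomX.isFinLocFree_hom hF hfree)
  let s : Coh.structureModule X ⟶ Hq := (SheafHomX.ev F F).symm (𝟙 F)
  obtain ⟨t, ht⟩ := hc D hfW (AModX.res Hq (le_top : D ≤ ⊤) (InvX.one s))
  obtain ⟨k₁, T, hT⟩ := QCoh.exists_pow_smul_eq_map_of_isQuasiSeparated hHO isCompact_univ
    isQuasiSeparated_univ g t
  have h0 : Hq.presheaf.map (homOfLE (X.basicOpen_le g)).op (C.app ⊤ T - g ^ k₁ • InvX.one s) = 0 := by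
    rw [map_sub, sub_eq_zero, ← QCoh.map_app_comm, hT, Scheme.Modules.Hom.app_smul, ht, QCoh.map_smul', map_pow]
    rfl
  obtain ⟨k₂, hk₂⟩ := QCoh.exists_pow_smul_eq_zero_of_isCompact hHq isCompact_univ g _ h0
  rw [smul_sub, sub_eq_zero, ← mul_smul, ← pow_add] at hk₂
  refine ⟨f, hxf, k₂ + k₁, SheafHomX.ev F O (InvX.ofSect (g ^ k₂ • T)), ?_⟩
  rw [← SheafHomX.ev_naturality]
  have hs : InvX.ofSect (g ^ k₂ • T) ≫ C = s ≫ Formal.smulMod A Hq (f ^ (k₂ + k₁)) := by
    refine SheafHomX.cls_injective ?_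
    unfold SheafHomX.cls
    congr 1
    show C.app ⊤ (InvX.one (InvX.ofSect (g ^ k₂ • T))) = (Formal.smulMod A Hq (f ^ (k₂ + k₁))).app ⊤ (InvX.one s)
    rw [InvX.one_ofSect, Scheme.Modules.Hom.app_smul, hk₂, SheafHomX.smulMod_app_top, map_pow]
  show SheafHomX.ev F F (InvX.ofSect (g ^ k₂ • T) ≫ C) = _
  rw [hs, ← SheafHomX.hom_map_smulMod, SheafHomX.ev_naturality, AddEquiv.apply_symm_apply, Category.id_comp]

theorem mapLin_add' {M N : X.Modules} (φ ψ : M ⟶ N) (p : ℕ) (y : Coh.HH X M p) :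
    mapLin A (φ + ψ) p y = mapLin A φ p y + mapLin A ψ p y := by
  show Sheaf.H.map ((QCoh.toAbFunctor X).map (φ + ψ)) p y = _
  rw [Functor.map_add, Sheaf.H.map_add_apply]
  rfl

theorem mapLin_id' {M : X.Modules} (p : ℕ) (y : Coh.HH X M p) : mapLin A (𝟙 M) p y = y := by
  show Sheaf.H.map ((QCoh.toAbFunctor X).map (𝟙 M)) p y = y
  rw [CategoryTheory.Functor.map_id]
  exact Sheaf.H.map_id_apply y

/-- A scalar killing the cohomology of `O` kills that of a free module. -/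
theorem smul_HH_freeMod (k p : ℕ) (a : A) (h : ∀ x : Coh.HH X (Coh.structureModule X) p, a • x = 0)
    (x : Coh.HH X (FlatMod.freeMod X k) p) : a • x = 0 := by
  let π : ∀ i : Fin k, FlatMod.freeMod X k ⟶ Coh.structureModule X :=
    fun i => Sigma.desc fun j => if j = i then 𝟙 _ else 0
  let ι : ∀ i : Fin k, Coh.structureModule X ⟶ FlatMod.freeMod X k :=
    fun i => Sigma.ι (fun _ : Fin k => Coh.structureModule X) i
  have hid : 𝟙 (FlatMod.freeMod X k) = ∑ i, π i ≫ ι i := by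
    refine Sigma.hom_ext _ _ fun j => ?_
    rw [Category.comp_id, Preadditive.comp_sum, Finset.sum_eq_single j]
    · simp [π, ι]
    · intro b _ hb
      simp [π, ι, Ne.symm hb]
    · simp
  let m : (FlatMod.freeMod X k ⟶ FlatMod.freeMod X k) →+ Coh.HH X (FlatMod.freeMod X k) p :=
    AddMonoidHom.mk' (fun φ => mapLin A φ p (a • x)) (fun φ ψ => mapLin_add' (A := A) φ ψ p _)
  have h1 : m (𝟙 _) = a • x := mapLin_id' (A := A) p _
  rw [← h1, hid, map_sum]
  refine Finset.sum_eq_zero fun i _ => ?_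
  show mapLin A (π i ≫ ι i) p (a • x) = 0
  rw [← FFun.mapLin_comp, (mapLin A (π i) p).map_smul, h, map_zero]

/-- Killing spreads from `O` to finite locally free modules. -/
theorem exists_pow_smul_HH [X.IsQuasiAffine]
    (I J : Ideal A) (hI : I.FG) (hJI : J ≤ I) (p n : ℕ)
    (hbasis : ∀ (x : X) (W : X.Opens), x ∈ W →
      ∃ f : A, x ∈ X.basicOpen (SheafHomX.glob X f) ∧ X.basicOpen (SheafHomX.glob X f) ≤ W)
    (hI' : ∀ (q : PrimeSpectrum A), ¬ I ≤ q.asIdeal → ∃ x : X, ∀ f : A, f ∈ q.asIdeal → x ∉ X.basicOpen (SheafHomX.glob X f))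
    (hO : ∀ a ∈ J ^ n, ∀ x : Coh.HH X (Coh.structureModule X) p, a • x = 0)
    (F : X.Modules) (hF : FlatMod.IsFinLocFree F) :
    ∃ m : ℕ, ∀ a ∈ J ^ m, ∀ x : Coh.HH X F p, a • x = 0 := by
  obtain ⟨k, s, hs⟩ := exists_generatedBy (QCoh.isQCoh_of_isFinLocFree hF)
    (QCoh.isFT_of_isFP (QCoh.isFP_of_isFinLocFree hF))
  obtain ⟨π, hπ⟩ := InvX.exists_epi_freeMod hs
  haveI := hπ
  let L : Ideal A :=
    { carrier := {c | ∀ j ∈ J ^ n, ∀ y : Coh.HH X F p, (c * j) • y = 0}
      zero_mem' := fun j _ y => by rw [zero_mul, zero_smul]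
      add_mem' := fun {a b} ha hb j hj y => by rw [add_mul, add_smul, ha j hj y, hb j hj y, add_zero]
      smul_mem' := fun c a ha j hj y => by rw [smul_eq_mul, mul_assoc, mul_smul, ha j hj y, smul_zero] }
  have hrad : I ≤ L.radical := by
    rw [Ideal.radical_eq_sInf]
    refine le_sInf fun q hq => ?_
    obtain ⟨hLq, hq'⟩ := hq
    by_contra hIq
    obtain ⟨x, hx⟩ := hI' ⟨q, hq'⟩ hIq
    obtain ⟨f, hxf, m, a, ha⟩ := exists_factor hF π x (hbasis x)
    refine hx f (hq'.mem_of_pow_mem m (hLq ?_)) hxf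
    intro j hj y
    rw [mul_comm, mul_smul, ← FFun.mapLin_smulMod A F (f ^ m), ← ha, ← FFun.mapLin_comp, ← map_smul,
      smul_HH_freeMod k p j (hO j hj), map_zero]
  obtain ⟨M, hM⟩ := Ideal.exists_pow_le_of_le_radical_of_fg hrad hI
  refine ⟨M + n, fun a ha x => ?_⟩
  rw [pow_add] at ha
  refine Submodule.mul_induction_on ha (fun b hb c hc => hM (Ideal.pow_right_mono hJI M hb) c hc x)
    fun u v hu hv => by rw [add_smul, hu, hv, add_zero]

end Groth.Agent.LCPunct
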