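import Mathlib

/-!
# The graded maps attached to a splitting `x = Σ f_j φ_j(x)` on `I^c`
-/

set_option autoImplicit false
universe u

open TensorProduct

namespace Groth.Agent.LC.Splitting

variable {A : Type u} [CommRing A] {I : Ideal A} {r c : ℕ} (φ : Fin r → (↥(I ^ c) →ₗ[A] A))

open Classical in
/-- `φ_j` extended by zero to all of `A`. -/
noncomputable def φe (j : Fin r) (x : A) : A := if h : x ∈ I ^ c then φ j ⟨x, h⟩ else 0

theorem φe_apply (j : Fin r) (x : A) (h : x ∈ I ^ c) : φe φ j x = φ j ⟨x, h⟩ := dif_pos h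

theorem φe_mul (j : Fin r) (a : A) {g : A} (hg : g ∈ I ^ c) : φe φ j (a * g) = a * φe φ j g := by
  rw [φe_apply φ j g hg, φe_apply φ j _ (Ideal.mul_mem_left _ a hg)]
  exact ((φ j).map_smul a ⟨g, hg⟩)

theorem φe_add (j : Fin r) {g h : A} (hg : g ∈ I ^ c) (hh : h ∈ I ^ c) :
    φe φ j (g + h) = φe φ j g + φe φ j h := by
  rw [φe_apply φ j g hg, φe_apply φ j h hh, φe_apply φ j _ (Ideal.add_mem _ hg hh), ← map_add]
  rfl

theorem φe_comm (j : Fin r) {g h : A} (hg : g ∈ I ^ c) (hh : h ∈ I ^ c) :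
    h * φe φ j g = g * φe φ j h := by
  rw [← φe_mul φ j h hg, ← φe_mul φ j g hh, mul_comm]

theorem φe_mem (j : Fin r) {m : ℕ} {g : A} (hg : g ∈ I ^ (m + c)) : φe φ j g ∈ I ^ m := by
  have key : g ∈ I ^ c ∧ φe φ j g ∈ I ^ m := by
    rw [pow_add] at hg
    induction hg using Submodule.mul_induction_on' with
    | mem_mul_mem a ha b hb =>
      exact ⟨Ideal.mul_mem_left _ a hb, by rw [φe_mul φ j a hb]; exact Ideal.mul_mem_right _ _ ha⟩
    | add x _ y _ hx hy =>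
      exact ⟨Ideal.add_mem _ hx.1 hy.1, by rw [φe_add φ j hx.1 hy.1]; exact Ideal.add_mem _ hx.2 hy.2⟩
  exact key.2

theorem φe_mem' (j : Fin r) {n : ℕ} {g : A} (hg : g ∈ I ^ ((n + 1) * c)) : φe φ j g ∈ I ^ (n * c) :=
  φe_mem φ j (by rwa [Nat.succ_mul] at hg)

theorem mem_c {n : ℕ} {g : A} (hg : g ∈ I ^ ((n + 1) * c)) : g ∈ I ^ c :=
  Ideal.pow_le_pow_right (Nat.le_mul_of_pos_left c (Nat.succ_pos n)) hg

/-- The graded algebra map, in degree `n`. -/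
noncomputable def Φ : ℕ → A → MvPolynomial (Fin r) A
  | 0, a => MvPolynomial.C a
  | n + 1, g => ∑ j, MvPolynomial.X j * Φ n (φe φ j g)

theorem Φ_add : ∀ (n : ℕ), ∀ g ∈ I ^ (n * c), ∀ h ∈ I ^ (n * c), Φ φ n (g + h) = Φ φ n g + Φ φ n h
  | 0, g, _, h, _ => map_add _ _ _
  | n + 1, g, hg, h, hh => by
    simp only [Φ]
    rw [← Finset.sum_add_distrib]
    refine Finset.sum_congr rfl fun j _ => ?_
    rw [φe_add φ j (mem_c hg) (mem_c hh), Φ_add n _ (φe_mem' φ j hg) _ (φe_mem' φ j hh), mul_add]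

theorem Φ_smul : ∀ (n : ℕ) (a : A), ∀ g ∈ I ^ (n * c), Φ φ n (a * g) = a • Φ φ n g
  | 0, a, g, _ => by simp [Φ, MvPolynomial.smul_eq_C_mul]
  | n + 1, a, g, hg => by
    simp only [Φ]
    rw [Finset.smul_sum]
    refine Finset.sum_congr rfl fun j _ => ?_
    rw [φe_mul φ j a (mem_c hg), Φ_smul n a _ (φe_mem' φ j hg), mul_smul_comm]

theorem Φ_homogeneous : ∀ (n : ℕ) (g : A), (Φ φ n g).IsHomogeneous n
  | 0, g => MvPolynomial.isHomogeneous_C _ _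
  | n + 1, g => MvPolynomial.IsHomogeneous.sum _ _ _ fun j _ => by
    rw [add_comm n 1]
    exact (MvPolynomial.isHomogeneous_X A j).mul (Φ_homogeneous n _)

theorem Φ_mul : ∀ (n m : ℕ), ∀ g ∈ I ^ (n * c), ∀ h ∈ I ^ (m * c), Φ φ (n + m) (g * h) = Φ φ n g * Φ φ m h
  | 0, m, g, _, h, hh => by
    rw [Nat.zero_add, Φ_smul φ m g h hh, MvPolynomial.smul_eq_C_mul]
    rfl
  | n + 1, m, g, hg, h, hh => by
    rw [show n + 1 + m = n + m + 1 by omega]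
    simp only [Φ]
    rw [Finset.sum_mul]
    refine Finset.sum_congr rfl fun j _ => ?_
    rw [mul_comm g h, φe_mul φ j h (mem_c hg), mul_comm h, Φ_mul n m _ (φe_mem' φ j hg) h hh, mul_assoc]

theorem Φ_one (g : A) (hg : g ∈ I ^ c) :
    Φ φ 1 g = ∑ j, MvPolynomial.C (φ j ⟨g, hg⟩) * MvPolynomial.X j :=
  Finset.sum_congr rfl fun j _ => by
    show MvPolynomial.X j * MvPolynomial.C (φe φ j g) = _
    rw [φe_apply φ j g hg, mul_comm]

theorem aeval_Φ (f : Fin r → A) (hφ : ∀ x : ↥(I ^ c), (x : A) = ∑ j, f j * φ j x) :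
    ∀ n : ℕ, ∀ g ∈ I ^ (n * c), MvPolynomial.aeval f (Φ φ n g) = g
  | 0, g, _ => by simp [Φ]
  | n + 1, g, hg => by
    simp only [Φ, map_sum, map_mul, MvPolynomial.aeval_X]
    refine (Finset.sum_congr rfl fun j _ => ?_).trans (hφ ⟨g, mem_c hg⟩).symm
    rw [aeval_Φ f hφ n _ (φe_mem' φ j hg), φe_apply φ j g (mem_c hg)]

/-- A multiplicative family agreeing with `φ` in degree one satisfies the recursion. -/
theorem succ_eq_of_props {c' : ℕ} (hcc' : c ≤ c') (Ψ : ℕ → A → MvPolynomial (Fin r) A)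
    (hadd : ∀ n : ℕ, ∀ g ∈ I ^ (n * c'), ∀ h ∈ I ^ (n * c'), Ψ n (g + h) = Ψ n g + Ψ n h)
    (hsmul : ∀ (n : ℕ) (a : A), ∀ g ∈ I ^ (n * c'), Ψ n (a * g) = a • Ψ n g)
    (hmul : ∀ n m : ℕ, ∀ g ∈ I ^ (n * c'), ∀ h ∈ I ^ (m * c'), Ψ (n + m) (g * h) = Ψ n g * Ψ m h)
    (hone : ∀ g, ∀ hg : g ∈ I ^ c', Ψ 1 g =
      ∑ j, MvPolynomial.C (φ j ⟨g, Ideal.pow_le_pow_right hcc' hg⟩) * MvPolynomial.X j)
    (n : ℕ) {g : A} (hg : g ∈ I ^ ((n + 1) * c')) :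
    Ψ (n + 1) g = ∑ j, MvPolynomial.X j * Ψ n (φe φ j g) ∧ ∀ j, φe φ j g ∈ I ^ (n * c') ∧ g ∈ I ^ c := by
  have hg' : g ∈ I ^ c' * I ^ (n * c') := by
    rwa [← pow_add, show c' + n * c' = (n + 1) * c' by ring]
  have key : g ∈ I ^ ((n + 1) * c') ∧ Ψ (n + 1) g = ∑ j, MvPolynomial.X j * Ψ n (φe φ j g) ∧
      ∀ j, φe φ j g ∈ I ^ (n * c') ∧ g ∈ I ^ c := by
    clear hg
    induction hg' using Submodule.mul_induction_on' with
    | mem_mul_mem a ha b hb =>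
      have hac : a ∈ I ^ c := Ideal.pow_le_pow_right hcc' ha
      have hab : ∀ j, φe φ j (a * b) = φe φ j a * b := fun j => by
        rw [mul_comm a b, φe_mul φ j b hac, mul_comm]
      refine ⟨by rw [show (n + 1) * c' = c' + n * c' by ring, pow_add]; exact Ideal.mul_mem_mul ha hb, ?_, fun j => ?_⟩
      · rw [show n + 1 = 1 + n by omega, hmul 1 n a (by simpa using ha) b hb, hone a ha, Finset.sum_mul]
        refine Finset.sum_congr rfl fun j _ => ?_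
        rw [hab j, hsmul n _ b hb, MvPolynomial.smul_eq_C_mul, ← φe_apply φ j a hac]
        ring
      · rw [hab j]
        exact ⟨Ideal.mul_mem_left _ _ hb, Ideal.mul_mem_right _ _ hac⟩
    | add x _ y _ hx hy =>
      refine ⟨Ideal.add_mem _ hx.1 hy.1, ?_, fun j => ?_⟩
      · rw [hadd _ _ hx.1 _ hy.1, hx.2.1, hy.2.1, ← Finset.sum_add_distrib]
        refine Finset.sum_congr rfl fun j _ => ?_
        rw [φe_add φ j (hx.2.2 j).2 (hy.2.2 j).2, hadd _ _ (hx.2.2 j).1 _ (hy.2.2 j).1, mul_add]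
      · rw [φe_add φ j (hx.2.2 j).2 (hy.2.2 j).2]
        exact ⟨Ideal.add_mem _ (hx.2.2 j).1 (hy.2.2 j).1, Ideal.add_mem _ (hx.2.2 j).2 (hy.2.2 j).2⟩
  exact key.2

theorem unique (Ψ : ℕ → A → MvPolynomial (Fin r) A)
    (hadd : ∀ n : ℕ, ∀ g ∈ I ^ (n * c), ∀ h ∈ I ^ (n * c), Ψ n (g + h) = Ψ n g + Ψ n h)
    (hsmul : ∀ (n : ℕ) (a : A), ∀ g ∈ I ^ (n * c), Ψ n (a * g) = a • Ψ n g)
    (hmul : ∀ n m : ℕ, ∀ g ∈ I ^ (n * c), ∀ h ∈ I ^ (m * c), Ψ (n + m) (g * h) = Ψ n g * Ψ m h)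
    (h0 : ∀ a, Ψ 0 a = MvPolynomial.C a)
    (hone : ∀ g, ∀ hg : g ∈ I ^ c, Ψ 1 g = ∑ j, MvPolynomial.C (φ j ⟨g, hg⟩) * MvPolynomial.X j) :
    ∀ n : ℕ, ∀ g ∈ I ^ (n * c), Ψ n g = Φ φ n g
  | 0, g, _ => h0 g
  | n + 1, g, hg => by
    rw [(succ_eq_of_props φ le_rfl Ψ hadd hsmul hmul hone n hg).1]
    exact Finset.sum_congr rfl fun j _ => by
      rw [unique Ψ hadd hsmul hmul h0 hone n _ (φe_mem' φ j hg)]

end Groth.Agent.LC.Splitting
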