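import Groth.Agent.LC.Splitting

/-!
# The graded module maps attached to a splitting
-/

set_option autoImplicit false
universe u

open TensorProduct

namespace Groth.Agent.LC.Splitting

variable {A : Type u} [CommRing A] {r c : ℕ} {I : Ideal A} (φ : Fin r → (↥(I ^ c) →ₗ[A] A))
  {B : Type u} [CommRing B] [Algebra A B] {N : Type u} [AddCommGroup N] [Module B N]

variable (B N I) in
/-- `I^m N`. -/
def pw (m : ℕ) : Submodule B N := Submodule.span B {y : N | ∃ g ∈ I ^ m, ∃ x : N, y = algebraMap A B g • x}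

theorem pw_mem {m : ℕ} {g : A} (hg : g ∈ I ^ m) (x : N) : algebraMap A B g • x ∈ pw I B N m :=
  Submodule.subset_span ⟨g, hg, x, rfl⟩

theorem pw_eq (m : ℕ) : pw I B N m = (I.map (algebraMap A B)) ^ m • (⊤ : Submodule B N) := by
  rw [← Ideal.map_pow]
  refine le_antisymm (Submodule.span_le.2 ?_) ?_
  · rintro _ ⟨g, hg, x, rfl⟩
    exact Submodule.smul_mem_smul (Ideal.mem_map_of_mem _ hg) Submodule.mem_top
  · rw [Ideal.map, ← Submodule.span_univ, Submodule.span_smul_span, Submodule.span_le]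
    intro y hy
    obtain ⟨_, ⟨g, hg, rfl⟩, x, -, rfl⟩ := Set.mem_smul.1 hy
    exact pw_mem hg x

theorem pw_mono {m m' : ℕ} (h : m ≤ m') : pw I B N m' ≤ pw I B N m :=
  Submodule.span_mono fun _ ⟨g, hg, x, e⟩ => ⟨g, Ideal.pow_le_pow_right h hg, x, e⟩

/-- Deep in the filtration there is no `I^c`-torsion. -/
theorem exists_torsion_free [IsNoetherianRing B] [Module.Finite B N] (I : Ideal A) (c : ℕ) :
    ∃ K : ℕ, ∀ z ∈ pw I B N K, (∀ h ∈ I ^ c, algebraMap A B h • z = 0) → z = 0 := by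
  set J := I.map (algebraMap A B) with hJ
  let T : Submodule B N := Submodule.torsionBySet B N ((J ^ c : Ideal B) : Set B)
  obtain ⟨k, hk⟩ := Ideal.exists_pow_inf_eq_pow_smul J (M := N) T
  refine ⟨k + c, fun z hz hzt => ?_⟩
  have hzT : z ∈ T := by
    refine (Submodule.mem_torsionBySet_iff _ _).2 ?_
    rintro ⟨b, hb⟩
    show b • z = 0
    rw [hJ, ← Ideal.map_pow] at hb
    change b ∈ (I ^ c).map (algebraMap A B) at hb
    rw [Ideal.map] at hb
    induction hb using Submodule.span_induction with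
    | mem x hx => obtain ⟨h, hh, rfl⟩ := hx; exact hzt h hh
    | zero => exact zero_smul _ _
    | add x y _ _ hx hy => rw [add_smul, hx, hy, add_zero]
    | smul a x _ hx => rw [smul_assoc, hx, smul_zero]
  have h2 : z ∈ J ^ (k + c) • (⊤ : Submodule B N) ⊓ T := ⟨by rw [← pw_eq]; exact hz, hzT⟩
  rw [hk (k + c) (Nat.le_add_right _ _), Nat.add_sub_cancel_left] at h2
  have h3 : z ∈ J ^ c • T := Submodule.smul_mono le_rfl inf_le_right h2
  have h4 : J ^ c • T ≤ ⊥ := Submodule.smul_le.2 fun b hb t ht => by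
    rw [Submodule.mem_bot]
    exact (Submodule.mem_torsionBySet_iff _ _).1 ht ⟨b, hb⟩
  exact (Submodule.mem_bot B).1 (h4 h3)

variable {K : ℕ} (hK : ∀ z ∈ pw I B N K, (∀ h ∈ I ^ c, algebraMap A B h • z = 0) → z = 0)

variable (B) in
/-- The value of `ψ_j` at `y`: the element `z` with `h z = φ_j(h) y` for all `h ∈ I^c`. -/
def IsVal (j : Fin r) (y z : N) : Prop :=
  ∀ h ∈ I ^ c, algebraMap A B h • z = algebraMap A B (φe φ j h) • y

theorem exists_val (j : Fin r) {m : ℕ} {y : N} (hy : y ∈ pw I B N (m + c)) :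
    ∃ z ∈ pw I B N m, IsVal φ B j y z := by
  induction hy using Submodule.span_induction with
  | mem y hy =>
    obtain ⟨g, hg, x, rfl⟩ := hy
    refine ⟨algebraMap A B (φe φ j g) • x, pw_mem (φe_mem φ j hg) x, fun h hh => ?_⟩
    rw [smul_smul, smul_smul, ← map_mul, ← map_mul,
      φe_comm φ j (Ideal.pow_le_pow_right (Nat.le_add_left c m) hg) hh, mul_comm g]
  | zero => exact ⟨0, Submodule.zero_mem _, fun h _ => by rw [smul_zero, smul_zero]⟩
  | add x y _ _ hx hy =>
    obtain ⟨a, ha, ha'⟩ := hx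
    obtain ⟨b, hb, hb'⟩ := hy
    exact ⟨a + b, Submodule.add_mem _ ha hb, fun h hh => by rw [smul_add, smul_add, ha' h hh, hb' h hh]⟩
  | smul s x _ hx =>
    obtain ⟨a, ha, ha'⟩ := hx
    exact ⟨s • a, Submodule.smul_mem _ _ ha, fun h hh => by rw [smul_comm, ha' h hh, smul_comm]⟩

include hK in
theorem val_unique (j : Fin r) {y z z' : N} (hz : z ∈ pw I B N K) (hz' : z' ∈ pw I B N K)
    (h : IsVal φ B j y z) (h' : IsVal φ B j y z') : z = z' :=
  sub_eq_zero.1 (hK _ (Submodule.sub_mem _ hz hz') fun a ha => by rw [smul_sub, h a ha, h' a ha, sub_self])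

variable (B) in
open Classical in
/-- `ψ_j`, extended by zero. -/
noncomputable def ψ (K : ℕ) (j : Fin r) (y : N) : N :=
  if h : ∃ z ∈ pw I B N K, IsVal φ B j y z then h.choose else 0

include hK in
theorem ψ_spec (j : Fin r) {m : ℕ} (hm : K ≤ m) {y : N} (hy : y ∈ pw I B N (m + c)) :
    ψ φ B K j y ∈ pw I B N m ∧ IsVal φ B j y (ψ φ B K j y) := by
  obtain ⟨z, hz, hzv⟩ := exists_val φ j hy
  have h : ∃ z ∈ pw I B N K, IsVal φ B j y z := ⟨z, pw_mono hm hz, hzv⟩
  rw [ψ, dif_pos h, val_unique φ hK j h.choose_spec.1 (pw_mono hm hz) h.choose_spec.2 hzv]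
  exact ⟨hz, hzv⟩

include hK in
theorem ψ_eq (j : Fin r) {y z : N} (hy : y ∈ pw I B N (K + c)) (hz : z ∈ pw I B N K) (h : IsVal φ B j y z) :
    ψ φ B K j y = z :=
  val_unique φ hK j (ψ_spec φ hK j le_rfl hy).1 hz (ψ_spec φ hK j le_rfl hy).2 h

include hK in
theorem ψ_smul_add (j : Fin r) (s : B) {x y : N} (hx : x ∈ pw I B N (K + c)) (hy : y ∈ pw I B N (K + c)) :
    ψ φ B K j (s • x + y) = s • ψ φ B K j x + ψ φ B K j y := by
  obtain ⟨a, ha⟩ := ψ_spec φ hK j le_rfl hx
  obtain ⟨b, hb⟩ := ψ_spec φ hK j le_rfl hy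
  refine ψ_eq φ hK j (Submodule.add_mem _ (Submodule.smul_mem _ _ hx) hy)
    (Submodule.add_mem _ (Submodule.smul_mem _ _ a) b) fun h hh => ?_
  rw [smul_add, smul_add, smul_comm, ha h hh, hb h hh, smul_comm]

include hK in
theorem ψ_gen (j : Fin r) {g : A} (hg : g ∈ I ^ (K + c)) (x : N) :
    ψ φ B K j (algebraMap A B g • x) = algebraMap A B (φe φ j g) • x :=
  ψ_eq φ hK j (pw_mem hg x) (pw_mem (φe_mem φ j hg) x) fun h hh => by
    rw [smul_smul, smul_smul, ← map_mul, ← map_mul,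
      φe_comm φ j (Ideal.pow_le_pow_right (Nat.le_add_left c K) hg) hh, mul_comm g]

variable (B) in
/-- The graded module map. -/
noncomputable def Ψ (K : ℕ) : ℕ → N → MvPolynomial (Fin r) B ⊗[B] N
  | 0, y => (1 : MvPolynomial (Fin r) B) ⊗ₜ[B] y
  | n + 1, y => ∑ j, (LinearMap.mulLeft B (MvPolynomial.X j : MvPolynomial (Fin r) B)).rTensor N
      (Ψ K n (ψ φ B K j y))

include hK in
theorem ψ_step (j : Fin r) {n : ℕ} {y : N} (hy : y ∈ pw I B N ((n + 1) * (K + c))) :
    y ∈ pw I B N (K + c) ∧ ψ φ B K j y ∈ pw I B N (n * (K + c)) := by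
  refine ⟨pw_mono (Nat.le_mul_of_pos_left _ (Nat.succ_pos n)) hy, pw_mono ?_ (ψ_spec φ hK j
    (Nat.le_add_left K (n * (K + c))) (m := n * (K + c) + K) (pw_mono (by ring_nf; omega) hy)).1⟩
  omega

include hK in
theorem Ψ_linear : ∀ (n : ℕ) (s : B) (x y : N), x ∈ pw I B N (n * (K + c)) → y ∈ pw I B N (n * (K + c)) →
    Ψ φ B K n (s • x + y) = s • Ψ φ B K n x + Ψ φ B K n y
  | 0, s, x, y, _, _ => by simp only [Ψ, TensorProduct.tmul_add, TensorProduct.tmul_smul]
  | n + 1, s, x, y, hx, hy => by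
    simp only [Ψ]
    rw [Finset.smul_sum, ← Finset.sum_add_distrib]
    refine Finset.sum_congr rfl fun j _ => ?_
    rw [ψ_smul_add φ hK j s (ψ_step φ hK j hx).1 (ψ_step φ hK j hy).1,
      Ψ_linear n s _ _ (ψ_step φ hK j hx).2 (ψ_step φ hK j hy).2, map_add, map_smul]

include hK in
theorem lift_Ψ (f : Fin r → A) (hφ : ∀ x : ↥(I ^ c), (x : A) = ∑ j, f j * φ j x) :
    ∀ (n : ℕ) (y : N), y ∈ pw I B N (n * (K + c)) →
      TensorProduct.lift ((LinearMap.lsmul B N).comp
        (MvPolynomial.aeval (fun j ↦ algebraMap A B (f j))).toLinearMap) (Ψ φ B K n y) = y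
  | 0, y, _ => by simp [Ψ]
  | n + 1, y, hy => by
    set ℓ := TensorProduct.lift ((LinearMap.lsmul B N).comp
        (MvPolynomial.aeval (fun j ↦ algebraMap A B (f j))).toLinearMap) with hℓ
    have hX : ∀ (j : Fin r) (w : MvPolynomial (Fin r) B ⊗[B] N),
        ℓ ((LinearMap.mulLeft B (MvPolynomial.X j : MvPolynomial (Fin r) B)).rTensor N w) =
          algebraMap A B (f j) • ℓ w := fun j w => by
      induction w using TensorProduct.induction_on with
      | zero => simp
      | tmul p x => simp [hℓ, smul_smul]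
      | add a b ha hb => rw [map_add, map_add, ha, hb, map_add, smul_add]
    simp only [Ψ, map_sum, hX]
    rw [Finset.sum_congr rfl fun j _ => congrArg (algebraMap A B (f j) • ·)
      (lift_Ψ f hφ n _ (ψ_step φ hK j hy).2)]
    have hy' : ∀ z, z ∈ pw I B N (K + c) → ∑ j, algebraMap A B (f j) • ψ φ B K j z = z := by
      intro z hz
      induction hz using Submodule.span_induction with
      | mem z hz =>
        obtain ⟨g, hg, x, rfl⟩ := hz
        have hgc : g ∈ I ^ c := Ideal.pow_le_pow_right (Nat.le_add_left c K) hg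
        rw [Finset.sum_congr rfl fun j _ => by
          rw [ψ_gen φ hK j hg x, smul_smul, ← map_mul, φe_apply φ j g hgc],
          ← Finset.sum_smul, ← map_sum, ← hφ ⟨g, hgc⟩]
      | zero =>
        refine Finset.sum_eq_zero fun j _ => ?_
        rw [ψ_eq φ hK j (z := 0) (Submodule.zero_mem _) (Submodule.zero_mem _)
          (fun h _ => by rw [smul_zero, smul_zero]), smul_zero]
      | add a b ha hb iha ihb =>
        conv_rhs => rw [← iha, ← ihb, ← Finset.sum_add_distrib]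
        refine Finset.sum_congr rfl fun j _ => ?_
        rw [← one_smul B a, ψ_smul_add φ hK j 1 ha hb, one_smul, one_smul, smul_add]
      | smul s a ha iha =>
        conv_rhs => rw [← iha, Finset.smul_sum]
        refine Finset.sum_congr rfl fun j _ => ?_
        rw [← add_zero (s • a), ψ_smul_add φ hK j s ha (Submodule.zero_mem _),
          ψ_eq φ hK j (y := (0 : N)) (z := 0) (Submodule.zero_mem _) (Submodule.zero_mem _)
            (fun h _ => by rw [smul_zero, smul_zero]), add_zero, smul_comm]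
    exact hy' y (pw_mono (Nat.le_mul_of_pos_left _ (Nat.succ_pos n)) hy)

include hK in
theorem Ψ_gen {Φ' : ℕ → A → MvPolynomial (Fin r) A}
    (h0 : ∀ a, Φ' 0 a = MvPolynomial.C a)
    (hrec : ∀ (n : ℕ) (g : A), g ∈ I ^ ((n + 1) * (K + c)) →
      Φ' (n + 1) g = ∑ j, MvPolynomial.X j * Φ' n (φe φ j g) ∧ ∀ j, φe φ j g ∈ I ^ (n * (K + c))) :
    ∀ (n : ℕ) (g : A), g ∈ I ^ (n * (K + c)) → ∀ x : N,
      Ψ φ B K n (algebraMap A B g • x) = MvPolynomial.map (algebraMap A B) (Φ' n g) ⊗ₜ[B] x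
  | 0, g, _, x => by
    rw [h0, MvPolynomial.map_C]
    show (1 : MvPolynomial (Fin r) B) ⊗ₜ[B] (algebraMap A B g • x) = _
    rw [← TensorProduct.smul_tmul, MvPolynomial.smul_eq_C_mul, mul_one]
  | n + 1, g, hg, x => by
    obtain ⟨he, hm⟩ := hrec n g hg
    rw [he, map_sum, TensorProduct.sum_tmul]
    simp only [Ψ]
    refine Finset.sum_congr rfl fun j _ => ?_
    rw [ψ_gen φ hK j (Ideal.pow_le_pow_right (Nat.le_mul_of_pos_left _ (Nat.succ_pos n)) hg) x,
      Ψ_gen h0 hrec n _ (hm j) x, map_mul, MvPolynomial.map_X, LinearMap.rTensor_tmul]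
    rfl

end Groth.Agent.LC.Splitting
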