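import Groth.Agent.LC.TopCofinite
import Groth.Agent.LC.Matlis

/-!
# Coassociated primes of the top local cohomology module
-/

set_option autoImplicit false
set_option linter.style.haveILetI false

universe u

open CategoryTheory IsLocalRing

namespace Groth.Agent.LC.TopCoass

variable {R : Type u} [CommRing R] [IsNoetherianRing R] [IsLocalRing R]
  [IsAdicComplete (maximalIdeal R) R] {E : Type u} [AddCommGroup E] [Module R E] {f : ResidueField R →ₗ[R] E}
  (hf : InjHull.IsInjectiveHull f) (I : Ideal R) (n : ℕ)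

theorem smul_eq_zero_of_kill {N : Type u} [AddCommGroup N] [Module R N] {a : R} (ha : ∀ z : N, a • z = 0)
    (z : (localCohomology I n).obj (ModuleCat.of R N)) : a • z = 0 := by
  have h0 : a • 𝟙 (ModuleCat.of R N) = 0 := ModuleCat.hom_ext (LinearMap.ext ha)
  have h1 := map_smul_apply I n a (𝟙 (ModuleCat.of R N)) z
  rw [h0, map_zero_apply, CategoryTheory.Functor.map_id] at h1
  exact h1.symm

theorem radical_eq_iff (p : Ideal R) [p.IsPrime] (hI : I ≤ maximalIdeal R) :
    (I ⊔ p).radical = maximalIdeal R ↔ ringKrullDim (R ⧸ (I ⊔ p)) ≤ 0 := by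
  have hle : I ⊔ p ≤ maximalIdeal R := sup_le hI (le_maximalIdeal (Ideal.IsPrime.ne_top ‹_›))
  constructor
  · intro h
    refine Order.krullDim_nonpos_iff_forall_isMax.2 fun x y hxy => ?_
    have key : ∀ w : PrimeSpectrum (R ⧸ (I ⊔ p)), w.asIdeal.comap (Ideal.Quotient.mk (I ⊔ p)) = maximalIdeal R := by
      intro w
      refine le_antisymm (le_maximalIdeal (Ideal.IsPrime.ne_top inferInstance)) ?_
      rw [← h, Ideal.IsPrime.radical_le_iff (Ideal.comap_isPrime _ _)]
      exact Ideal.mk_ker.ge.trans (Ideal.ker_le_comap (f := Ideal.Quotient.mk (I ⊔ p)) (K := w.asIdeal))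
    refine le_of_eq (PrimeSpectrum.ext ?_)
    exact Ideal.comap_injective_of_surjective _ Ideal.Quotient.mk_surjective ((key y).trans (key x).symm)
  · intro h
    obtain ⟨k, hk⟩ := TopCofinite.exists_pow_le_of_dim_le_zero _ h
    refine le_antisymm ((Ideal.IsPrime.radical_le_iff (maximalIdeal.isMaximal R).isPrime).2 hle) fun x hx => ?_
    exact ⟨k, hk (Ideal.pow_mem_pow hx k)⟩

theorem subsingleton_H_of_top (N : Type u) [AddCommGroup N] [Module R N] (hI : ¬ I ≤ maximalIdeal R) :
    Subsingleton ((localCohomology I n).obj (ModuleCat.of R N)) := by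
  have hItop : I = ⊤ := by
    by_contra h
    exact hI (le_maximalIdeal h)
  refine subsingleton_of_forall_eq 0 fun z => ?_
  obtain ⟨t, ht⟩ := isPowerTorsion_obj I n (ModuleCat.of R N) z
  have := ht 1 (by rw [hItop, Ideal.top_pow]; trivial)
  rwa [one_smul] at this

theorem good_of_nontrivial (p : PrimeSpectrum R) (hd : ringKrullDim (R ⧸ p.asIdeal) ≤ n)
    (h : ¬ Subsingleton ((localCohomology I n).obj (ModuleCat.of R (R ⧸ p.asIdeal)))) :
    ringKrullDim (R ⧸ p.asIdeal) = n ∧ (I ⊔ p.asIdeal).radical = maximalIdeal R := by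
  have hI : I ≤ maximalIdeal R := by
    by_contra hI
    exact h (subsingleton_H_of_top I n _ hI)
  rcases hd.lt_or_eq with hlt | heq
  · exact absurd (subsingleton_H_of_supportDim_lt I (R ⧸ p.asIdeal) n
      (by rwa [Module.supportDim_quotient_eq_ringKrullDim])) h
  refine ⟨heq, (radical_eq_iff I p.asIdeal hI).2 ?_⟩
  by_contra h0
  haveI : Nontrivial (R ⧸ p.asIdeal) := Ideal.Quotient.nontrivial_iff.2 p.2.ne_top
  haveI : IsLocalRing (R ⧸ p.asIdeal) := .of_surjective' _ Ideal.Quotient.mk_surjective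
  haveI : IsAdicComplete (maximalIdeal (R ⧸ p.asIdeal)) (R ⧸ p.asIdeal) := by
    have h1 : IsAdicComplete (maximalIdeal R) (R ⧸ p.asIdeal) := Adic7.isAdicComplete_of_finite _ _
    rw [← map_maximalIdeal_of_surjective (algebraMap R (R ⧸ p.asIdeal)) Ideal.Quotient.mk_surjective]
    exact (IsAdicComplete.map_algebraMap_iff (S := R ⧸ p.asIdeal) (maximalIdeal R) (R ⧸ p.asIdeal)).mpr h1
  obtain ⟨φ, -⟩ := exists_indep (R' := R ⧸ p.asIdeal) I n (R ⧸ p.asIdeal)
  haveI := subsingleton_H_complete_domain (R := R ⧸ p.asIdeal) heq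
    (I.map (algebraMap R (R ⧸ p.asIdeal))) (by
      rw [Ideal.Quotient.algebraMap_eq,
        ringKrullDim_eq_of_ringEquiv ((DoubleQuot.quotQuotEquivQuotSup p.asIdeal I).trans
          (Ideal.quotEquivOfEq (sup_comm _ _)))]
      cases hd : ringKrullDim (R ⧸ (I ⊔ p.asIdeal)) with
      | bot => exact absurd (hd ▸ bot_le) h0
      | coe x =>
        rw [hd] at h0
        have h0' : ¬ x ≤ 0 := fun hle => h0 (WithBot.coe_le_coe.2 hle)
        exact WithBot.coe_le_coe.2 (Order.one_le_iff_ne_zero.2 fun h => h0' h.le))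
  exact h φ.symm.toEquiv.subsingleton

theorem nontrivial_of_good (p : PrimeSpectrum R) (hd : ringKrullDim (R ⧸ p.asIdeal) = n)
    (hr : (I ⊔ p.asIdeal).radical = maximalIdeal R) :
    Nontrivial ((localCohomology I n).obj (ModuleCat.of R (R ⧸ p.asIdeal))) ∧
      ∀ x ∉ p.asIdeal, Function.Surjective
        fun z : (localCohomology I n).obj (ModuleCat.of R (R ⧸ p.asIdeal)) => x • z := by
  let B := R ⧸ p.asIdeal
  haveI : Nontrivial B := Ideal.Quotient.nontrivial_iff.2 p.2.ne_top
  haveI : IsLocalRing B := .of_surjective' _ Ideal.Quotient.mk_surjective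
  obtain ⟨φ, hφ⟩ := exists_indep (R' := B) I n B
  refine ⟨?_, fun x hx z => ?_⟩
  · by_contra hn
    rw [not_nontrivial_iff_subsingleton] at hn
    have h1 := φ.toEquiv.subsingleton
    have hrad : (I.map (algebraMap R B)).radical = (maximalIdeal B).radical := by
      rw [(maximalIdeal.isMaximal B).isPrime.radical]
      refine le_antisymm ((Ideal.IsPrime.radical_le_iff (maximalIdeal.isMaximal B).isPrime).2 ?_) ?_
      · refine le_maximalIdeal fun ht => ?_
        have h2 := congrArg (Ideal.comap (algebraMap R B)) ht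
        rw [Ideal.comap_top, Ideal.Quotient.algebraMap_eq,
          Ideal.comap_map_of_surjective' _ Ideal.Quotient.mk_surjective, Ideal.mk_ker] at h2
        rw [h2, Ideal.radical_top] at hr
        exact (maximalIdeal.isMaximal R).ne_top hr.symm
      · intro y hy
        obtain ⟨y, rfl⟩ := Ideal.Quotient.mk_surjective y
        have hy' : y ∈ (I ⊔ p.asIdeal).radical := by
          rw [hr, mem_maximalIdeal, mem_nonunits_iff]
          exact fun hu => (mem_maximalIdeal _).1 hy (hu.map _)
        obtain ⟨k, hk⟩ := hy'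
        refine ⟨k, ?_⟩
        rw [← map_pow, Ideal.Quotient.algebraMap_eq]
        exact Ideal.mem_quotient_iff_mem_sup.2 hk
    have h3 := (nontrivial_and_not_finite_H (R := B) n B
      (by rw [Module.supportDim_self_eq_ringKrullDim]; exact hd)).1
    exact not_subsingleton _ (subsingleton_H_of_radical_eq hrad n (ModuleCat.of B B) h1)
  · have hs := smul_surjective_H_top (R := B) (I.map (algebraMap R B)) hd (algebraMap R B x) (fun P hP _ hxP => hx (by
      rw [← Ideal.Quotient.eq_zero_iff_mem]
      have hP0 : P = ⊥ := le_bot_iff.1 (hP.2 ⟨Ideal.isPrime_bot, le_rfl⟩ bot_le)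
      rw [hP0] at hxP
      exact hxP)) B
    obtain ⟨w, rfl⟩ := φ.surjective z
    obtain ⟨v, hv⟩ := hs w
    exact ⟨φ v, by
      show x • φ v = φ w
      rw [← hφ]
      exact congrArg φ hv⟩

include hf in
theorem ass_dual_subset (N : Type u) [AddCommGroup N] [Module R N] [hN : Module.Finite R N]
    (hn : Module.supportDim R N ≤ (n : WithBot ℕ∞)) :
    ∀ q ∈ associatedPrimes R ((localCohomology I n).obj (ModuleCat.of R N) →ₗ[R] E),
      ringKrullDim (R ⧸ q) = n ∧ (I ⊔ q).radical = maximalIdeal R := by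
  revert hn
  induction hN using IsNoetherianRing.induction_on_isQuotientEquivQuotientPrime with
  | subsingleton N =>
    intro _ q hq
    haveI := subsingleton_H_of_supportDim_lt I N n (by
      rw [Module.supportDim_eq_bot_of_subsingleton]; exact WithBot.bot_lt_coe _)
    exact absurd hq (by simp [associatedPrimes.eq_empty_of_subsingleton])
  | quotient N p e =>
    intro hn q hq
    rw [Module.supportDim_eq_of_equiv e, Module.supportDim_quotient_eq_ringKrullDim] at hn
    let eH := ((localCohomology I n).mapIso e.toModuleIso).toLinearEquiv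
    rw [← LinearEquiv.AssociatedPrimes.eq (LinearEquiv.congrLeft E R eH).symm] at hq
    obtain ⟨hqp, φ, hφ⟩ := Alg6.mem_ass_iff.1 hq
    have hφ0 : φ ≠ 0 := fun h0 => hqp.ne_top ((Ideal.eq_top_iff_one _).2 ((hφ 1).2 (by rw [h0, smul_zero])))
    have hns : ¬ Subsingleton ((localCohomology I n).obj (ModuleCat.of R (R ⧸ p.asIdeal))) := fun h =>
      hφ0 (LinearMap.ext fun z => by rw [Subsingleton.elim z 0, map_zero, map_zero])
    obtain ⟨hd, hr⟩ := good_of_nontrivial I n p hn hns
    have hqe : q = p.asIdeal := by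
      refine le_antisymm (fun a ha => ?_) (fun a ha => (hφ a).2 ?_)
      · by_contra hap
        refine hφ0 (LinearMap.ext fun z => ?_)
        obtain ⟨w, rfl⟩ := (nontrivial_of_good I n p hd hr).2 a hap z
        rw [map_smul, ← LinearMap.smul_apply, (hφ a).1 ha]
        simp
      · refine LinearMap.ext fun z => ?_
        rw [LinearMap.smul_apply, ← map_smul, smul_eq_zero_of_kill I n (fun y => ?_) z, map_zero,
          LinearMap.zero_apply]
        obtain ⟨y, rfl⟩ := Ideal.Quotient.mk_surjective y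
        rw [← Ideal.Quotient.algebraMap_eq, Algebra.smul_def, ← map_mul, Ideal.Quotient.algebraMap_eq,
          Ideal.Quotient.eq_zero_iff_mem]
        exact Ideal.mul_mem_right _ _ ha
    rw [hqe]
    exact ⟨hd, hr⟩
  | exact N₁ N₂ N₃ i g hi hg hfg h₁ h₃ =>
    intro hn q hq
    have hn₁ := (Module.supportDim_le_of_injective i hi).trans hn
    have hn₃ := (Module.supportDim_le_of_surjective g hg).trans hn
    let S : ShortComplex (ModuleCat.{u} R) := ShortComplex.mk
      (X₁ := ModuleCat.of R N₁) (X₂ := ModuleCat.of R N₂) (X₃ := ModuleCat.of R N₃)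
      (ModuleCat.ofHom i) (ModuleCat.ofHom g)
      (ModuleCat.hom_ext (LinearMap.ext fun z => (hfg (i z)).2 ⟨z, rfl⟩))
    have hS : S.ShortExact :=
      { exact := (ShortComplex.ShortExact.moduleCat_exact_iff_function_exact _).2 hfg
        mono_f := (ModuleCat.mono_iff_injective _).2 hi
        epi_g := (ModuleCat.epi_iff_surjective _).2 hg }
    have hsur := surjective_H_map_of_supportDim_lt I g hg n (by
      refine lt_of_le_of_lt ((Module.supportDim_le_of_injective (LinearMap.ker g).subtype
        Subtype.val_injective).trans hn) ?_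
      exact Nat.cast_lt.2 (Nat.lt_succ_self n))
    haveI := hf.isInjective
    let α := ((localCohomology I n).map (ModuleCat.ofHom i)).hom
    let β := ((localCohomology I n).map (ModuleCat.ofHom g)).hom
    have hsub := associatedPrimes.subset_union_of_exact (f := LinearMap.lcomp R E β) (g := LinearMap.lcomp R E α)
      (fun a b hab => LinearMap.ext fun z => by
        obtain ⟨w, rfl⟩ := hsur z
        exact LinearMap.congr_fun hab w)
      (fun ψ => ⟨fun hψ => ?_, fun ⟨χ, hχ⟩ => ?_⟩) hq
    · rcases hsub with h | h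
      · exact h₃ hn₃ q h
      · exact h₁ hn₁ q h
    · have hker : LinearMap.ker β ≤ LinearMap.ker ψ := fun z hz => by
        obtain ⟨w, rfl⟩ := (exact₂ I n hS z).1 hz
        exact LinearMap.congr_fun hψ w
      refine ⟨(LinearMap.ker β).liftQ ψ hker ∘ₗ (β.quotKerEquivOfSurjective hsur).symm.toLinearMap,
        LinearMap.ext fun z => ?_⟩
      show (LinearMap.ker β).liftQ ψ hker ((β.quotKerEquivOfSurjective hsur).symm (β z)) = ψ z
      rw [show (β.quotKerEquivOfSurjective hsur).symm (β z) = Submodule.Quotient.mk z from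
        (LinearEquiv.symm_apply_eq _).2 rfl]
      rfl
    · rw [← hχ]
      refine LinearMap.ext fun z => ?_
      show χ (β (α z)) = 0
      rw [(exact₂ I n hS (α z)).2 ⟨z, rfl⟩, map_zero]

include hf in
theorem mem_ass_dual (M : Type u) [AddCommGroup M] [Module R M] [Module.Finite R M]
    (hn : Module.supportDim R M ≤ (n : WithBot ℕ∞)) (p : PrimeSpectrum R) (hp : Module.annihilator R M ≤ p.asIdeal)
    (hd : ringKrullDim (R ⧸ p.asIdeal) = n) (hr : (I ⊔ p.asIdeal).radical = maximalIdeal R) :
    p.asIdeal ∈ associatedPrimes R ((localCohomology I n).obj (ModuleCat.of R M) →ₗ[R] E) := by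
  obtain ⟨hnt, hsurj⟩ := nontrivial_of_good I n p hd hr
  obtain ⟨g, hg0⟩ := exists_linearMap_quot_ne_zero p (Module.mem_support_iff_of_finite.2 hp)
  let N := LinearMap.range g
  have h1 := surjective_H_map_of_supportDim_lt I g.rangeRestrict g.surjective_rangeRestrict n
    (lt_of_le_of_lt ((Module.supportDim_le_of_injective (LinearMap.ker g.rangeRestrict).subtype
      Subtype.val_injective).trans hn)
      (Nat.cast_lt.2 (Nat.lt_succ_self n)))
  haveI : Nontrivial (R ⧸ p.asIdeal) := Ideal.Quotient.nontrivial_iff.2 p.2.ne_top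
  have hC : Subsingleton ((localCohomology I n).obj (ModuleCat.of R ((R ⧸ p.asIdeal) ⧸ N))) := by
    refine subsingleton_H_of_supportDim_lt I _ n ?_
    obtain ⟨y, hy, hy0⟩ : ∃ y ∈ N, y ≠ 0 := by
      by_contra h
      push Not at h
      exact hg0 (LinearMap.ext fun z => h _ ⟨z, rfl⟩)
    obtain ⟨y, rfl⟩ := Ideal.Quotient.mk_surjective y
    have hyp : y ∉ p.asIdeal := fun h => hy0 (Ideal.Quotient.eq_zero_iff_mem.2 h)
    have hkill : p.asIdeal ⊔ Ideal.span {y} ≤ Module.annihilator R ((R ⧸ p.asIdeal) ⧸ N) := by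
      refine sup_le (fun a ha => ?_) ((Ideal.span_singleton_le_iff_mem _).2 ?_) <;>
        refine Module.mem_annihilator.2 fun z => ?_ <;>
        obtain ⟨z, rfl⟩ := Submodule.Quotient.mk_surjective _ z <;>
        obtain ⟨z, rfl⟩ := Ideal.Quotient.mk_surjective z <;>
        rw [← Submodule.Quotient.mk_smul, Submodule.Quotient.mk_eq_zero]
      · rw [Algebra.smul_def, Ideal.Quotient.algebraMap_eq, ← map_mul,
          Ideal.Quotient.eq_zero_iff_mem.2 (Ideal.mul_mem_right _ _ ha)]
        exact N.zero_mem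
      · rw [show y • Ideal.Quotient.mk p.asIdeal z = z • Ideal.Quotient.mk p.asIdeal y by
          rw [Algebra.smul_def, Algebra.smul_def, Ideal.Quotient.algebraMap_eq, mul_comm]]
        exact N.smul_mem z hy
    refine lt_of_le_of_lt (b := ringKrullDim (R ⧸ (p.asIdeal ⊔ Ideal.span {y}))) ?_ ?_
    · rw [Module.supportDim_eq_ringKrullDim_quotient_annihilator]
      exact ringKrullDim_le_of_surjective (Ideal.Quotient.factor hkill) (Ideal.Quotient.factor_surjective hkill)
    · have h2 := FlatLoc6.ringKrullDim_sup_succ_le p.asIdeal y (fun P hP => by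
        rw [Ideal.minimalPrimes_eq_subsingleton_self] at hP
        exact hP ▸ hyp)
      rw [hd] at h2
      revert h2
      generalize ringKrullDim (R ⧸ (p.asIdeal ⊔ Ideal.span {y})) = z
      intro h2
      cases z with
      | bot => exact WithBot.bot_lt_coe _
      | coe z =>
        have h3 : z + 1 ≤ (n : ℕ∞) := by exact_mod_cast h2
        exact WithBot.coe_lt_coe.2 (lt_of_lt_of_le ((ENat.add_one_le_iff (ne_top_of_le_ne_top
          (ENat.natCast_ne_top n) (le_self_add.trans h3))).1 le_rfl) h3)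
  let S : ShortComplex (ModuleCat.{u} R) := ShortComplex.mk (X₁ := ModuleCat.of R N)
    (X₂ := ModuleCat.of R (R ⧸ p.asIdeal)) (X₃ := ModuleCat.of R ((R ⧸ p.asIdeal) ⧸ N))
    (ModuleCat.ofHom N.subtype) (ModuleCat.ofHom N.mkQ)
    (ModuleCat.hom_ext (LinearMap.ext fun z => (Submodule.Quotient.mk_eq_zero _).2 z.2))
  have hS : S.ShortExact :=
    { exact := (ShortComplex.ShortExact.moduleCat_exact_iff_function_exact _).2
        (LinearMap.exact_subtype_mkQ N)
      mono_f := (ModuleCat.mono_iff_injective _).2 Subtype.val_injective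
      epi_g := (ModuleCat.epi_iff_surjective _).2 (Submodule.mkQ_surjective _) }
  let σ := ((localCohomology I n).map S.f).hom ∘ₗ ((localCohomology I n).map (ModuleCat.ofHom g.rangeRestrict)).hom
  have hσ : Function.Surjective σ := fun z => by
    obtain ⟨w, rfl⟩ := (exact₂ I n hS z).1
      (Subsingleton.elim (α := (localCohomology I n).obj (ModuleCat.of R ((R ⧸ p.asIdeal) ⧸ N))) _ _)
    obtain ⟨v, rfl⟩ := h1 w
    exact ⟨v, rfl⟩
  refine associatedPrimes.subset_of_injective (f := LinearMap.lcomp R E σ) (fun a b hab => LinearMap.ext fun z => ?_) ?_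
  · obtain ⟨w, rfl⟩ := hσ z
    exact LinearMap.congr_fun hab w
  obtain ⟨z, hz⟩ := exists_ne (0 : (localCohomology I n).obj (ModuleCat.of R (R ⧸ p.asIdeal)))
  obtain ⟨φ, hφ⟩ := exists_dual_ne_zero hf hz
  refine Alg6.mem_ass_iff.2 ⟨p.2, φ, fun a => ⟨fun ha => LinearMap.ext fun w => ?_, fun ha => ?_⟩⟩
  · rw [LinearMap.smul_apply, ← map_smul, smul_eq_zero_of_kill I n (fun y => ?_) w, map_zero,
      LinearMap.zero_apply]
    obtain ⟨y, rfl⟩ := Ideal.Quotient.mk_surjective y
    rw [← Ideal.Quotient.algebraMap_eq, Algebra.smul_def, ← map_mul, Ideal.Quotient.algebraMap_eq,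
      Ideal.Quotient.eq_zero_iff_mem]
    exact Ideal.mul_mem_right _ _ ha
  · by_contra hap
    obtain ⟨w, rfl⟩ := hsurj a hap z
    exact hφ (by rw [map_smul, ← LinearMap.smul_apply, ha, LinearMap.zero_apply])

include hf in
theorem ass_dual_eq (M : Type u) [AddCommGroup M] [Module R M] [Module.Finite R M]
    (hn : Module.supportDim R M ≤ (n : WithBot ℕ∞)) :
    associatedPrimes R ((localCohomology I n).obj (ModuleCat.of R M) →ₗ[R] E) =
      {p : Ideal R | p.IsPrime ∧ Module.annihilator R M ≤ p ∧ ringKrullDim (R ⧸ p) = n ∧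
        (I ⊔ p).radical = maximalIdeal R} := by
  ext q
  constructor
  · intro hq
    obtain ⟨hd, hr⟩ := ass_dual_subset hf I n M hn q hq
    obtain ⟨hqp, φ, hφ⟩ := Alg6.mem_ass_iff.1 hq
    refine ⟨hqp, fun a ha => (hφ a).2 (LinearMap.ext fun z => ?_), hd, hr⟩
    rw [LinearMap.smul_apply, ← map_smul, smul_eq_zero_of_kill I n (Module.mem_annihilator.1 ha) z, map_zero,
      LinearMap.zero_apply]
  · rintro ⟨hq, ha, hd, hr⟩
    exact mem_ass_dual hf I n M hn ⟨q, hq⟩ ha hd hr

end Groth.Agent.LC.TopCoass
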