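import Groth.Agent.LC.HlvtMain
import Groth.Agent.LC.MatlisExtra
import Groth.Agent.LC.ExtBridge
import Groth.Agent.LC.GorCore
import Groth.Agent.LC.LocalDuality
import Groth.Agent.LC.CanonUnique
import Groth.Agent.CILib.Basic
import Groth.Agent.FlatLoc6.Cpl
import Groth.Agent.LocalCrit.Complete
import Groth.Agent.FormCat.Descent
import Groth.Agent.LC.ExtLoc

/-!
# Cofiniteness of the top local cohomology module
-/

set_option autoImplicit false
set_option linter.style.haveILetI false

universe u

open CategoryTheory IsLocalRing TensorProduct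

namespace Groth.Agent.LC.TopCofinite

theorem exists_pow_le_of_dim_le_zero {B : Type u} [CommRing B] [IsNoetherianRing B] [IsLocalRing B] (K : Ideal B)
    (h : ringKrullDim (B ⧸ K) ≤ 0) : ∃ k : ℕ, maximalIdeal B ^ k ≤ K := by
  refine Ideal.exists_pow_le_of_le_radical_of_fg ?_ (IsNoetherian.noetherian _)
  rw [Ideal.radical_eq_sInf]
  refine le_sInf fun q ⟨hKq, hq⟩ => ?_
  haveI := hq
  haveI : Ring.KrullDimLE 0 (B ⧸ K) := Ring.krullDimLE_iff.2 h
  haveI : (q.map (Ideal.Quotient.mk K)).IsPrime :=
    Ideal.map_isPrime_of_surjective Ideal.Quotient.mk_surjective (by rwa [Ideal.mk_ker])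
  haveI : (q.map (Ideal.Quotient.mk K)).IsMaximal := Ideal.IsPrime.isMaximal' inferInstance
  have hm : ((q.map (Ideal.Quotient.mk K)).comap (Ideal.Quotient.mk K)).IsMaximal :=
    Ideal.comap_isMaximal_of_surjective _ Ideal.Quotient.mk_surjective
  rw [Ideal.comap_map_mk hKq] at hm
  exact (IsLocalRing.eq_maximalIdeal hm).ge

set_option maxHeartbeats 1000000 in
/-- Over a complete local ring the top local cohomology is killed by an ideal coprime to `J` off the closed point. -/
theorem exists_kill {B : Type u} [CommRing B] [IsNoetherianRing B] [IsLocalRing B]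
    [IsAdicComplete (maximalIdeal B) B] (J : Ideal B) (n : ℕ) (N : Type u) [AddCommGroup N] [Module B N]
    [hN : Module.Finite B N] (hn : Module.supportDim B N ≤ (n : WithBot ℕ∞)) :
    ∃ (b : Ideal B) (k : ℕ), maximalIdeal B ^ k ≤ J ⊔ b ∧
      ∀ c ∈ b, ∀ z : (localCohomology J n).obj (ModuleCat.of B N), c • z = 0 := by
  revert hn
  induction hN using IsNoetherianRing.induction_on_isQuotientEquivQuotientPrime with
  | subsingleton N =>
    intro _
    refine ⟨⊤, 0, le_sup_of_le_right le_top, fun c _ z => ?_⟩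
    haveI := subsingleton_H_of_supportDim_lt J N n (by
      rw [Module.supportDim_eq_bot_of_subsingleton]; exact WithBot.bot_lt_coe _)
    exact Subsingleton.elim _ _
  | quotient N p e =>
    intro hn
    haveI : Nontrivial (B ⧸ p.asIdeal) := Ideal.Quotient.nontrivial_iff.2 p.2.ne_top
    haveI : IsLocalRing (B ⧸ p.asIdeal) := .of_surjective' _ Ideal.Quotient.mk_surjective
    let eH := ((localCohomology J n).mapIso e.toModuleIso).toLinearEquiv
    rw [Module.supportDim_eq_of_equiv e, Module.supportDim_quotient_eq_ringKrullDim] at hn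
    rcases hn.lt_or_eq with hlt | heq
    · refine ⟨⊤, 0, le_sup_of_le_right le_top, fun c _ z => ?_⟩
      haveI := subsingleton_H_of_supportDim_lt J (B ⧸ p.asIdeal) n
        (by rwa [Module.supportDim_quotient_eq_ringKrullDim])
      exact eH.injective (Subsingleton.elim _ _)
    obtain ⟨φ, hφ⟩ := exists_indep (R' := B ⧸ p.asIdeal) J n (B ⧸ p.asIdeal)
    by_cases h0 : ringKrullDim (B ⧸ (J ⊔ p.asIdeal)) ≤ 0
    · obtain ⟨k, hk⟩ := exists_pow_le_of_dim_le_zero _ h0
      refine ⟨p.asIdeal, k, hk, fun c hc z => eH.injective ?_⟩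
      rw [map_smul, map_zero]
      obtain ⟨w, hw⟩ := φ.surjective (eH z)
      rw [← hw, ← hφ]
      have h0 : algebraMap B (B ⧸ p.asIdeal) c = 0 := Ideal.Quotient.eq_zero_iff_mem.2 hc
      rw [h0, zero_smul, map_zero]
    · refine ⟨⊤, 0, le_sup_of_le_right le_top, fun c _ z => ?_⟩
      haveI : IsAdicComplete (maximalIdeal (B ⧸ p.asIdeal)) (B ⧸ p.asIdeal) := by
        have h1 : IsAdicComplete (maximalIdeal B) (B ⧸ p.asIdeal) := Adic7.isAdicComplete_of_finite _ _
        rw [← map_maximalIdeal_of_surjective (algebraMap B (B ⧸ p.asIdeal)) Ideal.Quotient.mk_surjective]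
        exact (IsAdicComplete.map_algebraMap_iff (S := B ⧸ p.asIdeal) (maximalIdeal B) (B ⧸ p.asIdeal)).mpr h1
      haveI := subsingleton_H_complete_domain (R := B ⧸ p.asIdeal) heq
        (J.map (algebraMap B (B ⧸ p.asIdeal))) (by
          rw [Ideal.Quotient.algebraMap_eq, ringKrullDim_eq_of_ringEquiv ((DoubleQuot.quotQuotEquivQuotSup p.asIdeal J).trans
            (Ideal.quotEquivOfEq (sup_comm _ _)))]
          obtain ⟨x, hx⟩ : ∃ x : ℕ∞, ringKrullDim (B ⧸ (J ⊔ p.asIdeal)) = x := by
            cases hd : ringKrullDim (B ⧸ (J ⊔ p.asIdeal)) with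
            | bot => exact absurd (hd ▸ bot_le) h0
            | coe x => exact ⟨x, rfl⟩
          rw [hx] at h0 ⊢
          have h0' : ¬ x ≤ 0 := fun hle => h0 (WithBot.coe_le_coe.2 hle)
          exact WithBot.coe_le_coe.2 (Order.one_le_iff_ne_zero.2 fun h => h0' h.le))
      haveI := φ.symm.toEquiv.subsingleton
      exact eH.injective (Subsingleton.elim _ _)
  | exact N₁ N₂ N₃ f g hf hg hfg h₁ h₃ =>
    intro hn
    obtain ⟨b₁, k₁, hk₁, hb₁⟩ := h₁ ((Module.supportDim_le_of_injective f hf).trans hn)
    obtain ⟨b₃, k₃, hk₃, hb₃⟩ := h₃ ((Module.supportDim_le_of_surjective g hg).trans hn)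
    refine ⟨b₁ * b₃, k₁ + k₃, ?_, fun c hc z => ?_⟩
    · rw [pow_add]
      refine (Ideal.mul_mono hk₁ hk₃).trans ?_
      rw [Ideal.sup_mul, Ideal.mul_sup, Ideal.mul_sup]
      exact sup_le (sup_le ((Ideal.mul_le_inf.trans inf_le_left).trans le_sup_left)
          ((Ideal.mul_le_inf.trans inf_le_left).trans le_sup_left))
        (sup_le ((Ideal.mul_le_inf.trans inf_le_right).trans le_sup_left) le_sup_right)
    · let S : ShortComplex (ModuleCat.{u} B) := ShortComplex.mk
        (X₁ := ModuleCat.of B N₁) (X₂ := ModuleCat.of B N₂) (X₃ := ModuleCat.of B N₃)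
        (ModuleCat.ofHom f) (ModuleCat.ofHom g)
        (ModuleCat.hom_ext (LinearMap.ext fun z => (hfg (f z)).2 ⟨z, rfl⟩))
      have hS : S.ShortExact :=
        { exact := (ShortComplex.ShortExact.moduleCat_exact_iff_function_exact _).2 hfg
          mono_f := (ModuleCat.mono_iff_injective _).2 hf
          epi_g := (ModuleCat.epi_iff_surjective _).2 hg }
      revert z
      induction hc using Submodule.mul_induction_on' with
      | mem_mul_mem u hu v hv =>
        intro z
        obtain ⟨w, hw⟩ := (exact₂ J n hS (v • z)).1 (by rw [map_smul]; exact hb₃ v hv _)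
        rw [mul_smul, ← hw, ← map_smul, hb₁ u hu, map_zero]
      | add x _ y _ hx hy =>
        intro z
        rw [add_smul, hx, hy, add_zero]

section Main

variable {R : Type u} [CommRing R] [IsNoetherianRing R] [IsLocalRing R]

/-- A power of the maximal ideal acts on the top local cohomology through `I`. -/
theorem exists_pow_mem_smul_end (I : Ideal R) (M : Type u) [AddCommGroup M] [Module R M] [Module.Finite R M]
    (n : ℕ) (hn : Module.supportDim R M ≤ (n : WithBot ℕ∞)) :
    ∃ k : ℕ, ∀ a ∈ maximalIdeal R ^ k,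
      a • LinearMap.id ∈ I • (⊤ : Submodule R (Module.End R ((localCohomology I n).obj (ModuleCat.of R M)))) := by
  let H := (localCohomology I n).obj (ModuleCat.of R M)
  let C := AdicCompletion (maximalIdeal R) R
  haveI := FlatLoc6.isLocalRing_cpl R
  haveI := FlatLoc6.isNoetherianRing_cpl R
  haveI := CILib.isAdicComplete_adicCompletion R
  have hJdim : Module.supportDim C (C ⊗[R] M) ≤ (n : WithBot ℕ∞) := by
    rcases subsingleton_or_nontrivial M with hM | hM
    · rw [Module.supportDim_eq_bot_of_subsingleton]; exact bot_le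
    haveI : Nontrivial (R ⧸ Module.annihilator R M) := Ideal.Quotient.nontrivial_iff.2 fun ht =>
      not_subsingleton M (subsingleton_of_forall_eq 0 fun m => by
        rw [← one_smul R m]; exact Module.mem_annihilator.1 (ht ▸ Submodule.mem_top) m)
    haveI : IsLocalRing (R ⧸ Module.annihilator R M) := .of_surjective' _ Ideal.Quotient.mk_surjective
    rw [Module.supportDim_eq_ringKrullDim_quotient_annihilator] at hn ⊢
    refine le_trans ?_ ((FormCat.ringKrullDim_cpl_quotient R (Module.annihilator R M)).le.trans hn)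
    have hle : (Module.annihilator R M).map (algebraMap R C) ≤ Module.annihilator C (C ⊗[R] M) := by
      refine Ideal.map_le_iff_le_comap.2 fun a ha => Module.mem_annihilator.2 fun z => ?_
      induction z using TensorProduct.induction_on with
      | zero => exact smul_zero _
      | tmul c m => rw [← tmul_smul, Module.mem_annihilator.1 ha m, tmul_zero]
      | add x y hx hy => rw [smul_add, hx, hy, add_zero]
    exact ringKrullDim_le_of_surjective (Ideal.Quotient.factor hle) (Ideal.Quotient.factor_surjective hle)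
  obtain ⟨b, k, hk, hb⟩ := exists_kill (I.map (algebraMap R C)) n (C ⊗[R] M) hJdim
  obtain ⟨E⟩ := exists_baseChange (R' := C) I n M
  have hbH : ∀ c ∈ b, ∀ w : C ⊗[R] H, c • w = 0 := fun c hc w => E.injective (by rw [map_smul, hb c hc, map_zero])
  -- the torsion
  have htors : LocCoh.IsPowerTorsion (maximalIdeal R) H := by
    by_cases hI : I ≤ maximalIdeal R
    · obtain ⟨s, hs⟩ := exists_surjective_H_of_le hI
        (IsLocalRing.jacobson_eq_maximalIdeal (⊥ : Ideal R) bot_ne_top).ge M n n hn le_rfl
      intro z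
      obtain ⟨w, rfl⟩ := hs z
      obtain ⟨t, ht⟩ := isPowerTorsion_obj (maximalIdeal R) n (ModuleCat.of R M) w
      exact ⟨t, fun a ha => by rw [← map_smul, ht a ha, map_zero]⟩
    · intro z
      have hItop : I = ⊤ := by
        by_contra h
        exact hI (le_maximalIdeal h)
      obtain ⟨t, ht⟩ := isPowerTorsion_obj I n (ModuleCat.of R M) z
      refine ⟨0, fun a _ => ht a ?_⟩
      rw [hItop, Ideal.top_pow]; trivial
  let η : H ≃ₗ[R] C ⊗[R] H := LinearEquiv.ofBijective _ (mk_one_bijective_of_powerTorsion H htors)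
  let L : C →ₗ[R] Module.End R H :=
    η.symm.conj.toLinearMap ∘ₗ (Algebra.lsmul R R (C ⊗[R] H)).toLinearMap
  have hL : ∀ (c : C) (z : H), L c z = η.symm (c • η z) := fun c z => by
    simp [L, LinearEquiv.conj_apply, Algebra.lsmul_coe]
  refine ⟨k, fun a ha => ?_⟩
  have ha' : algebraMap R C a ∈ I.map (algebraMap R C) ⊔ b := hk (by
    rw [AdicCompletion.maximalIdeal_eq_map_of_fg (IsNoetherian.noetherian _), ← Ideal.map_pow]
    exact Ideal.mem_map_of_mem _ ha)
  obtain ⟨x, hx, y, hy, hxy⟩ := Submodule.mem_sup.1 ha'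
  have h1 : L (algebraMap R C a) = a • LinearMap.id := LinearMap.ext fun z => by
    rw [hL, algebraMap_smul, map_smul, LinearEquiv.symm_apply_apply]; rfl
  have h2 : L y = 0 := LinearMap.ext fun z => by
    rw [hL, hbH y hy, map_zero]; rfl
  rw [← h1, ← hxy, map_add, h2, add_zero]
  have hx' : x ∈ (I • ⊤ : Submodule R C) := by
    rw [LocalCrit.smul_top_eq_map]; exact hx
  have hmap : Submodule.map L (I • ⊤ : Submodule R C) ≤ I • ⊤ := by
    rw [Submodule.map_smul'']
    exact Submodule.smul_mono le_rfl le_top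
  exact hmap ⟨x, hx', rfl⟩

theorem isArtinian_top (I : Ideal R) (M : Type u) [AddCommGroup M] [Module R M] [Module.Finite R M] (n : ℕ)
    (hn : Module.supportDim R M ≤ (n : WithBot ℕ∞)) :
    IsArtinian R ((localCohomology I n).obj (ModuleCat.of R M)) := by
  by_cases hI : I ≤ maximalIdeal R
  · obtain ⟨s, hs⟩ := exists_surjective_H_of_le hI
      (IsLocalRing.jacobson_eq_maximalIdeal (⊥ : Ideal R) bot_ne_top).ge M n n hn le_rfl
    haveI := LC.isArtinian_H (R := R) n M
    exact isArtinian_of_surjective _ s hs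
  · have hItop : I = ⊤ := by
      by_contra h
      exact hI (le_maximalIdeal h)
    haveI : Subsingleton ((localCohomology I n).obj (ModuleCat.of R M)) := subsingleton_of_forall_eq 0 fun z => by
      obtain ⟨t, ht⟩ := isPowerTorsion_obj I n (ModuleCat.of R M) z
      have := ht 1 (by rw [hItop, Ideal.top_pow]; trivial)
      rwa [one_smul] at this
    infer_instance

/-- `Ext` of a finite module into an Artinian module is Artinian. -/
theorem isArtinian_ext (Y : Type u) [AddCommGroup Y] [Module R Y] [IsArtinian R Y] : ∀ (i : ℕ) (N : Type u)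
    [AddCommGroup N] [Module R N] [Module.Finite R N],
    IsArtinian R (Abelian.Ext (ModuleCat.of R N) (ModuleCat.of R Y) i) := by
  intro i
  induction i with
  | zero =>
    intro N _ _ _
    obtain ⟨m, π, hπ⟩ := exists_fin_presentation (R := R) N
    let e := (Abelian.Ext.linearEquiv₀.trans ModuleCat.homLinearEquiv :
      Abelian.Ext (ModuleCat.of R N) (ModuleCat.of R Y) 0 ≃ₗ[R] (N →ₗ[R] Y))
    haveI : IsArtinian R ((Fin m → R) →ₗ[R] Y) :=
      isArtinian_of_linearEquiv (LinearEquiv.piRing R Y (Fin m) R).symm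
    refine isArtinian_of_injective ((LinearMap.lcomp R Y π) ∘ₗ e.toLinearMap) ?_
    intro a b hab
    apply e.injective
    exact LinearMap.ext fun z => by
      obtain ⟨w, rfl⟩ := hπ z
      exact LinearMap.congr_fun hab w
  | succ i ih =>
    intro N _ _ _
    obtain ⟨m, π, hπ⟩ := exists_fin_presentation (R := R) N
    let S : ShortComplex (ModuleCat.{u} R) := ShortComplex.mk
      (X₁ := ModuleCat.of R (LinearMap.ker π)) (X₂ := ModuleCat.of R (Fin m → R)) (X₃ := ModuleCat.of R N)
      (ModuleCat.ofHom (LinearMap.ker π).subtype) (ModuleCat.ofHom π)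
      (ModuleCat.hom_ext (LinearMap.ext fun z => z.2))
    have hS : S.ShortExact :=
      { exact := (ShortComplex.ShortExact.moduleCat_exact_iff_function_exact _).2
          (LinearMap.exact_subtype_ker_map π)
        mono_f := (ModuleCat.mono_iff_injective _).2 Subtype.val_injective
        epi_g := (ModuleCat.epi_iff_surjective _).2 hπ }
    haveI := ih (LinearMap.ker π)
    let δ := Abelian.Ext.precompOfLinear hS.extClass R (ModuleCat.of R Y) (add_comm 1 i)
    refine isArtinian_of_surjective _ δ fun e => ?_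
    exact Abelian.Ext.contravariant_sequence_exact₃ hS (ModuleCat.of R Y) e
      (@Subsingleton.elim _ (subsingleton_ext_free m i (ModuleCat.of R Y)) _ _) (add_comm 1 i)

/-- The top local cohomology module is cofinite. -/
theorem isFiniteLength_ext_top (I : Ideal R) (M : Type u) [AddCommGroup M] [Module R M] [Module.Finite R M]
    (n : ℕ) (hn : Module.supportDim R M ≤ (n : WithBot ℕ∞)) (i : ℕ) :
    IsFiniteLength R (Abelian.Ext (ModuleCat.of R (R ⧸ I))
      (ModuleCat.of R ((localCohomology I n).obj (ModuleCat.of R M))) i) := by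
  let H := (localCohomology I n).obj (ModuleCat.of R M)
  haveI := isArtinian_top I M n hn
  haveI := isArtinian_ext (R := R) H i (R ⧸ I)
  obtain ⟨k, hk⟩ := exists_pow_mem_smul_end I M n hn
  have key : ∀ f : Module.End R H, f ∈ I • (⊤ : Submodule R (Module.End R H)) →
      ∀ e : Abelian.Ext (ModuleCat.of R (R ⧸ I)) (ModuleCat.of R H) i,
        e.comp (Abelian.Ext.mk₀ (ModuleCat.ofHom f : ModuleCat.of R H ⟶ ModuleCat.of R H)) (add_zero i) = 0 := by
    intro f hf
    induction hf using Submodule.smul_induction_on' with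
    | smul r hr g _ =>
      intro e
      rw [show (ModuleCat.ofHom (r • g) : ModuleCat.of R H ⟶ ModuleCat.of R H) = r • ModuleCat.ofHom g from rfl,
        Abelian.Ext.mk₀_smul, Abelian.Ext.comp_smul]
      refine smul_ext_eq_zero_of_smul (N := ModuleCat.of R (R ⧸ I)) (fun z => ?_) _
      obtain ⟨z, rfl⟩ := Submodule.Quotient.mk_surjective _ z
      rw [← Submodule.Quotient.mk_smul, Submodule.Quotient.mk_eq_zero, smul_eq_mul]
      exact Ideal.mul_mem_right _ _ hr
    | add x _ y _ hx hy =>
      intro e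
      rw [show (ModuleCat.ofHom (x + y) : ModuleCat.of R H ⟶ ModuleCat.of R H) =
        ModuleCat.ofHom x + ModuleCat.ofHom y from rfl, Abelian.Ext.mk₀_add, Abelian.Ext.comp_add, hx, hy, add_zero]
  have hkill : ∀ a ∈ maximalIdeal R ^ k,
      ∀ e : Abelian.Ext (ModuleCat.of R (R ⧸ I)) (ModuleCat.of R H) i, a • e = 0 := by
    intro a ha e
    have h := key _ (hk a ha) e
    rw [show (ModuleCat.ofHom (a • LinearMap.id) : ModuleCat.of R H ⟶ ModuleCat.of R H) = a • 𝟙 _ from rfl,
      Abelian.Ext.mk₀_smul, Abelian.Ext.comp_smul, Abelian.Ext.comp_mk₀_id] at h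
    exact h
  haveI := (isFiniteLength_iff_isNoetherian_isArtinian.1 (isFiniteLength_quot_pow (R := R) k)).2
  haveI : IsArtinianRing (R ⧸ maximalIdeal R ^ k) := isArtinian_of_tower R this
  haveI := LC.finite_of_kill (maximalIdeal R ^ k) _ hkill
  exact isFiniteLength_iff_isNoetherian_isArtinian.2 ⟨inferInstance, inferInstance⟩

end Main

end Groth.Agent.LC.TopCofinite
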